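import Cfsg.Agent.H961.SevM
import Cfsg.Agent.H533.T5.SporDefs_m3
import Cfsg.Agent.Lib.ProductSet
import Cfsg.Agent.H609.T5.MFive
import Cfsg.Agent.H106.MTools2
import Cfsg.Agent.H459.Inv.Tools
import Cfsg.Agent.LThreeMB.Quo
import Cfsg.Agent.FastGrp
import Cfsg.Agent.Prune
set_option linter.all false

section
prune_inst 0x7f00000000000000000000000000000000000000000000000000000000000000000000000000000000000000000000000000000000000000000000000000000000000000000000000000000000000000003fffffffffffffffffffffffffffbeffbdffffffff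

-- part: H609/T5/MSevenB
section
set_option linter.all false
open scoped Cfsg.Agent.FastGrp

-- part: H609/T5/MSevenA
section
/-!
# All elements of order 7 are transvections on `⟨w, w₁⟩`, abstractly

`Good w w₁ x` : a conjugate of `x` commutes with `w` and maps `w₁` to `w₁ w ^ m`, `7 ∤ m`; `Good.wpair`.
`Sit` : the situation of helper961: `Q = O_7(C(w))`, `w₁ = a w a⁻¹ ∈ Q`, `a w₁ a⁻¹ = w⁻¹`.
-/

set_option autoImplicit false
set_option linter.unusedSectionVars false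

namespace Cfsg.Agent.H609.T5.Seven

open Subgroup Cfsg Cfsg.Agent.H961.SevLift
open Cfsg.Agent.H533.T5 (WPair)

section good

variable {K : Type*} [Group K] {w w1 x : K}

/-- a conjugate of `x` is a transvection on `⟨w, w₁⟩` with centre `⟨w⟩` -/
def Good (w w1 x : K) : Prop :=
  ∃ (k : K) (m : ℤ), ¬ (7 : ℤ) ∣ m ∧ (k * x * k⁻¹) * w = w * (k * x * k⁻¹) ∧
    (k * x * k⁻¹) * w1 * (k * x * k⁻¹)⁻¹ = w1 * w ^ m

theorem Good.conj {g : K} (h : Good w w1 (g * x * g⁻¹)) : Good w w1 x := by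
  obtain ⟨k, m, hm, h1, h2⟩ := h
  have e : (k * g) * x * (k * g)⁻¹ = k * (g * x * g⁻¹) * k⁻¹ := by group
  exact ⟨k * g, m, hm, by rw [e]; exact h1, by rw [e]; exact h2⟩

theorem Good.of_eq {y g : K} (h : Good w w1 y) (e : g * x * g⁻¹ = y) : Good w w1 x := by
  subst e
  exact h.conj

theorem not_dvd_mul {m n : ℤ} (hm : ¬ (7 : ℤ) ∣ m) (hn : ¬ (7 : ℤ) ∣ n) : ¬ (7 : ℤ) ∣ m * n := by
  intro h
  have hp : Prime (7 : ℤ) := by
    rw [Int.prime_iff_natAbs_prime]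
    norm_num
  rcases hp.dvd_or_dvd h with h | h
  · exact hm h
  · exact hn h

/-- powers of transvections -/
theorem pow_act {X : K} {m : ℤ} (h1 : X * w = w * X) (h2 : X * w1 * X⁻¹ = w1 * w ^ m) (n : ℕ) :
    X ^ n * w1 * (X ^ n)⁻¹ = w1 * w ^ (m * n) := by
  induction n with
  | zero => simp
  | succ n ih =>
    have h3 : X * w ^ (m * n) * X⁻¹ = w ^ (m * n) := by
      rw [((show Commute X w from h1).zpow_right (m * n)).eq, mul_inv_cancel_right]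
    calc X ^ (n + 1) * w1 * (X ^ (n + 1))⁻¹ = X * (X ^ n * w1 * (X ^ n)⁻¹) * X⁻¹ := by rw [pow_succ']; group
      _ = (X * w1 * X⁻¹) * (X * w ^ (m * n) * X⁻¹) := by rw [ih]; group
      _ = w1 * (w ^ m * w ^ (m * n)) := by rw [h2, h3, mul_assoc]
      _ = w1 * w ^ (m * (n + 1 : ℕ)) := by
        rw [← zpow_add]
        congr 2
        push_cast
        ring

theorem Good.pow (h : Good w w1 x) {n : ℕ} (hn : ¬ 7 ∣ n) : Good w w1 (x ^ n) := by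
  obtain ⟨k, m, hm, h1, h2⟩ := h
  refine ⟨k, m * n, not_dvd_mul hm (by exact_mod_cast hn), ?_, ?_⟩
  · rw [← conj_pow]
    exact ((show Commute (k * x * k⁻¹) w from h1).pow_left n).eq
  · rw [← conj_pow]
    exact pow_act h1 h2 n

/-- **Two good elements form a pair.** -/
theorem Good.wpair [Finite K] {a x y : K} (hwo : orderOf w = 7) (hw1o : orderOf w1 = 7) (hww1 : w * w1 = w1 * w)
    (hw1n : w1 ∉ zpowers w) (haw : a * w * a⁻¹ = w1) (haw1 : a * w1 * a⁻¹ = w⁻¹) (hx : Good w w1 x)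
    (hy : Good w w1 y) : WPair 7 (⊤ : Subgroup K) x y := by
  have h7 : Fact (Nat.Prime 7) := ⟨by norm_num⟩
  obtain ⟨k, m, hm, h1, h2⟩ := hx
  obtain ⟨l, n, hn, h3, h4⟩ := hy
  refine (H533.T5.WPair.conj_left (mem_top k) (H533.T5.WPair.conj_right (mem_top (a * l)) ⟨1, mem_top _, ?_⟩) :)
  have e : (1 : K) * (a * l * y * (a * l)⁻¹) * 1⁻¹ = a * (l * y * l⁻¹) * a⁻¹ := by group
  rw [e]
  generalize k * x * k⁻¹ = X at h1 h2
  generalize l * y * l⁻¹ = Y at h3 h4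
  intro hP
  refine H839.Rad.not_solvable_closure (p := 7) (by norm_num) hwo hw1o hww1 hw1n (u := X) (v := a * Y * a⁻¹) (m := m)
    (n := -n) hm (by rwa [dvd_neg]) h1 h2 ?_ ?_ ?_
  · rw [← haw]
    calc a * Y * a⁻¹ * (a * w * a⁻¹) = a * (Y * w) * a⁻¹ := by group
      _ = a * w * a⁻¹ * (a * Y * a⁻¹) := by rw [h3]; group
  · have e1 : w = a * w1⁻¹ * a⁻¹ := by
      have : a * w1⁻¹ * a⁻¹ = (a * w1 * a⁻¹)⁻¹ := by rw [conj_inv]
      rw [this, haw1, inv_inv]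
    have e2 : a * w ^ (-n) * a⁻¹ = w1 ^ (-n) := by rw [← haw, conj_zpow]
    have e3 : Y * w1⁻¹ * Y⁻¹ = w1⁻¹ * w ^ (-n) := by
      have : Y * w1⁻¹ * Y⁻¹ = (Y * w1 * Y⁻¹)⁻¹ := by rw [conj_inv]
      rw [this, h4, mul_inv_rev, ← zpow_neg]
      exact (((show Commute w w1 from hww1).zpow_left (-n)).inv_right).eq
    calc a * Y * a⁻¹ * w * (a * Y * a⁻¹)⁻¹ = a * Y * a⁻¹ * (a * w1⁻¹ * a⁻¹) * (a * Y * a⁻¹)⁻¹ := by rw [← e1]
      _ = a * (Y * w1⁻¹ * Y⁻¹) * a⁻¹ := by group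
      _ = (a * w1⁻¹ * a⁻¹) * (a * w ^ (-n) * a⁻¹) := by rw [e3]; group
      _ = w * w1 ^ (-n) := by rw [← e1, e2]
  · have := hP.isNilpotent
    infer_instance

end good

/-- the situation -/
structure Sit {K : Type*} [Group K] (w w1 a s1 : K) (Q : Subgroup K) : Prop where
  q : QQ w Q
  wo : orderOf w = 7
  aw : a * w * a⁻¹ = w1
  aw1 : a * w1 * a⁻¹ = w⁻¹
  w1Q : w1 ∈ Q
  s1Q : s1 ∈ Q
  ne : s1 * w1 ≠ w1 * s1

variable {K : Type*} [Group K] [Finite K] {w w1 a s1 : K} {Q : Subgroup K}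

theorem exists_sit {y v s c : K} (h : Loc y w v s a c) (hQ : QQ w Q)
    (h5 : ¬ 7 ^ 5 ∣ Nat.card ↥(centralizer ({y} : Set K))) (h7 : ¬ 7 ^ 7 ∣ Nat.card K) :
    ∃ s1, Sit w (a * w * a⁻¹) a s1 Q := by
  have : Fact (Nat.Prime 7) := ⟨by norm_num⟩
  obtain ⟨hw1, s1, hs1, hs1w⟩ := h.mem_Q hQ h5 h7
  exact ⟨s1, hQ, orderOf_eq_prime h.w7 h.w1, rfl, h.a_w1, hw1, hs1, hs1w⟩

namespace Sit

omit [Finite K] in
theorem w1o (h : Sit w w1 a s1 Q) : orderOf w1 = 7 := by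
  rw [← h.aw, ← MulAut.conj_apply, MulEquiv.orderOf_eq, h.wo]

omit [Finite K] in
theorem comm_w (h : Sit w w1 a s1 Q) {q : K} (hq : q ∈ Q) : q * w = w * q :=
  mem_centralizer_singleton_iff.1 (h.q.le hq)

omit [Finite K] in
theorem ww1 (h : Sit w w1 a s1 Q) : w * w1 = w1 * w := (h.comm_w h.w1Q).symm

omit [Finite K] in
theorem w1n (h : Sit w w1 a s1 Q) : w1 ∉ zpowers w := by
  intro h1
  obtain ⟨i, hi⟩ := mem_zpowers_iff.1 h1
  apply h.ne
  rw [← hi]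
  exact ((show Commute s1 w from h.comm_w h.s1Q).zpow_right i).eq

omit [Finite K] in
/-- elements of `Q` moving `w₁` -/
theorem act_of_ne (h : Sit w w1 a s1 Q) {q : K} (hq : q ∈ Q) (hne : q * w1 ≠ w1 * q) :
    ∃ m : ℤ, ¬ (7 : ℤ) ∣ m ∧ q * w1 * q⁻¹ = w1 * w ^ m := by
  obtain ⟨m, hm⟩ := mem_zpowers_iff.1 (h.q.comm q hq w1 h.w1Q)
  have hm7 : ¬ (7 : ℤ) ∣ m := by
    intro h1
    apply hne
    have h2 : w ^ m = 1 := by
      rw [← orderOf_dvd_iff_zpow_eq_one, h.wo]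
      exact h1
    rw [h2] at hm
    have h3 := hm.symm
    rw [mul_inv_eq_one, mul_inv_eq_iff_eq_mul] at h3
    exact h3
  refine ⟨m, hm7, ?_⟩
  rw [← ((show Commute w w1 from h.ww1).zpow_left m).eq, hm]
  group

/-- the elements of `Q ∖ ⟨w⟩` are good -/
theorem good_Q (h : Sit w w1 a s1 Q) {x : K} (hx : x ∈ Q) (hxw : x ∉ zpowers w) : Good w w1 x := by
  obtain ⟨d, hd, hdx⟩ : ∃ d : K, d * w = w * d ∧ (d * x * d⁻¹) * w1 ≠ w1 * (d * x * d⁻¹) := by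
    by_contra hcon
    push Not at hcon
    let U : Subgroup K := closure ({g | ∃ d : K, d * w = w * d ∧ g = d * x * d⁻¹} ∪ {w})
    have hU1 : ∀ d : K, d * w = w * d → ∀ q ∈ U, d * q * d⁻¹ ∈ U := by
      intro d hd q hq
      have h1 : U.map (MulAut.conj d).toMonoidHom ≤ U := by
        rw [MonoidHom.map_closure, closure_le]
        rintro _ ⟨g, hg, rfl⟩
        apply Subgroup.subset_closure
        rcases hg with ⟨e, he, rfl⟩ | hg
        · left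
          refine ⟨d * e, by rw [mul_assoc, he, ← mul_assoc, hd, mul_assoc], ?_⟩
          change d * (e * x * e⁻¹) * d⁻¹ = _
          group
        · right
          rw [Set.mem_singleton_iff] at hg
          subst hg
          change d * g * d⁻¹ = g
          rw [hd, mul_inv_cancel_right]
      exact h1 ⟨q, hq, rfl⟩
    have hUw : w ∈ U := Subgroup.subset_closure (Or.inr rfl)
    have hUx : x ∈ U := Subgroup.subset_closure (Or.inl ⟨1, by rw [one_mul, mul_one], by group⟩)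
    have hUQ : U ≤ Q := by
      rw [closure_le]
      rintro _ (⟨e, he, rfl⟩ | hg)
      · exact h.q.norm e he x hx
      · rw [Set.mem_singleton_iff] at hg
        rw [hg]
        exact h.q.mem
    have hU := h.q.irr U hU1 hUw hUQ (fun h1 => hxw (h1 ▸ hUx))
    have hUc : U ≤ centralizer ({w1} : Set K) := by
      rw [closure_le]
      rintro _ (⟨e, he, rfl⟩ | hg)
      · exact mem_centralizer_singleton_iff.2 (hcon e he)
      · rw [Set.mem_singleton_iff] at hg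
        rw [hg]
        exact mem_centralizer_singleton_iff.2 h.ww1
    rw [hU] at hUc
    exact h.ne (mem_centralizer_singleton_iff.1 (hUc h.s1Q))
  have hdQ := h.q.norm d hd x hx
  obtain ⟨m, hm, h2⟩ := h.act_of_ne hdQ hdx
  exact ⟨d, m, hm, h.comm_w hdQ, h2⟩

theorem good_w (h : Sit w w1 a s1 Q) : Good w w1 w := (h.good_Q h.w1Q h.w1n).of_eq h.aw

theorem good_mem (h : Sit w w1 a s1 Q) {x : K} (hx : x ∈ Q) (hx1 : x ≠ 1) : Good w w1 x := by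
  by_cases hxw : x ∈ zpowers w
  · obtain ⟨n, rfl⟩ := (mem_powers_iff_mem_zpowers (x := w) (y := x)).2 hxw
    refine h.good_w.pow (n := n) ?_
    rintro ⟨m, rfl⟩
    apply hx1
    show w ^ (7 * m) = 1
    rw [pow_mul, ← h.wo, pow_orderOf_eq_one, one_pow]
  · exact h.good_Q hx hxw

/-- **The centre of `Q`.** -/
theorem center_le (h : Sit w w1 a s1 Q) {x : K} (hx : x ∈ Q) (hxc : ∀ q ∈ Q, q * x = x * q) : x ∈ zpowers w := by
  by_contra hne
  have h1 := h.q.irr (Q ⊓ centralizer (Q : Set K)) ?_ ⟨h.q.mem, mem_centralizer_iff.2 fun q hq => h.comm_w hq⟩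
    inf_le_left ?_
  · have h2 : w1 ∈ Q ⊓ centralizer (Q : Set K) := by rw [h1]; exact h.w1Q
    exact h.ne (mem_centralizer_iff.1 h2.2 s1 h.s1Q)
  · rintro d hd q ⟨hq, hqc⟩
    refine ⟨h.q.norm d hd q hq, mem_centralizer_iff.2 fun g hg => ?_⟩
    have hd' : d⁻¹ * w = w * d⁻¹ := ((show Commute d w from hd).inv_left).eq
    have h2 := h.q.norm d⁻¹ hd' g hg
    rw [inv_inv] at h2
    have h3 := mem_centralizer_iff.1 hqc _ h2
    calc g * (d * q * d⁻¹) = d * ((d⁻¹ * g * d) * q) * d⁻¹ := by group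
      _ = d * (q * (d⁻¹ * g * d)) * d⁻¹ := by rw [h3]
      _ = d * q * d⁻¹ * g := by group
  · intro h2
    apply hne
    rw [← h2]
    exact ⟨hx, mem_centralizer_iff.2 hxc⟩

/-- the kernel of `b ↦ [b, q₀]` -/
theorem card_comm (h : Sit w w1 a s1 Q) {B : Subgroup K} (hB : B ≤ Q) {q₀ : K} (hq : q₀ ∈ Q) :
    ∃ r : ℕ, r ∣ 7 ∧ Nat.card ↥B = Nat.card ↥(B ⊓ centralizer ({q₀} : Set K) : Subgroup K) * r ∧
      (r = 1 → ∀ b ∈ B, b * q₀ = q₀ * b) := by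
  let φ : ↥B →* K := MonoidHom.mk' (fun b => (b : K) * q₀ * (b : K)⁻¹ * q₀⁻¹) (by
    intro b b'
    obtain ⟨i, hi⟩ := mem_zpowers_iff.1 (h.q.comm b' (hB b'.2) q₀ hq)
    have hbw : (b : K) * w ^ i = w ^ i * b := ((show Commute (b : K) w from h.comm_w (hB b.2)).zpow_right i).eq
    show ((b : K) * b') * q₀ * ((b : K) * b')⁻¹ * q₀⁻¹ = ((b : K) * q₀ * (b : K)⁻¹ * q₀⁻¹) * ((b' : K) * q₀ * (b' : K)⁻¹ * q₀⁻¹)
    have hc : ((b : K) * q₀ * (b : K)⁻¹ * q₀⁻¹) * w ^ i = w ^ i * ((b : K) * q₀ * (b : K)⁻¹ * q₀⁻¹) :=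
      ((show Commute _ w from h.comm_w (Q.mul_mem (Q.mul_mem (Q.mul_mem (hB b.2) hq) (Q.inv_mem (hB b.2))) (Q.inv_mem hq))).zpow_right i).eq
    calc ((b : K) * b') * q₀ * ((b : K) * b')⁻¹ * q₀⁻¹
        = (b : K) * ((b' : K) * q₀ * (b' : K)⁻¹ * q₀⁻¹) * q₀ * (b : K)⁻¹ * q₀⁻¹ := by group
      _ = ((b : K) * w ^ i) * q₀ * (b : K)⁻¹ * q₀⁻¹ := by rw [hi]
      _ = w ^ i * ((b : K) * q₀ * (b : K)⁻¹ * q₀⁻¹) := by rw [hbw]; group
      _ = _ := by rw [← hc, hi])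
  have hφ : ∀ b : ↥B, φ b = (b : K) * q₀ * (b : K)⁻¹ * q₀⁻¹ := fun b => rfl
  have h1 : Nat.card ↥φ.ker * Nat.card ↥φ.range = Nat.card ↥B := by
    rw [← φ.ker.card_mul_index, index_ker]
  have h2 : φ.ker.map B.subtype = B ⊓ centralizer ({q₀} : Set K) := by
    ext g
    rw [mem_map]
    constructor
    · rintro ⟨b, hb, rfl⟩
      refine ⟨b.2, mem_centralizer_singleton_iff.2 ?_⟩
      have h6 : (b : K) * q₀ * (b : K)⁻¹ * q₀⁻¹ = 1 := hb
      rw [mul_inv_eq_one, mul_inv_eq_iff_eq_mul] at h6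
      exact h6
    · rintro ⟨hg, hgr⟩
      refine ⟨⟨g, hg⟩, ?_, rfl⟩
      rw [MonoidHom.mem_ker, hφ]
      show g * q₀ * g⁻¹ * q₀⁻¹ = 1
      rw [mem_centralizer_singleton_iff.1 hgr]
      group
  refine ⟨Nat.card ↥φ.range, ?_, ?_, ?_⟩
  · rw [← h.wo, ← Nat.card_zpowers]
    apply card_dvd_of_le
    rintro _ ⟨b, rfl⟩
    exact h.q.comm b (hB b.2) q₀ hq
  · rw [← h2, card_map_of_injective B.subtype_injective, h1]
  · intro h3 b hb
    rw [Subgroup.card_eq_one] at h3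
    have h4 : φ ⟨b, hb⟩ ∈ φ.range := ⟨_, rfl⟩
    rw [h3, mem_bot, hφ] at h4
    have h6 : b * q₀ * b⁻¹ * q₀⁻¹ = 1 := h4
    rw [mul_inv_eq_one, mul_inv_eq_iff_eq_mul] at h6
    exact h6

/-- `|C_Q(w₁)| = 7 ^ 4` -/
theorem card_R1 (h : Sit w w1 a s1 Q) : Nat.card ↥(Q ⊓ centralizer ({w1} : Set K) : Subgroup K) = 7 ^ 4 := by
  obtain ⟨r, hr, h1, h2⟩ := h.card_comm le_rfl h.w1Q
  rcases (Nat.dvd_prime (by norm_num)).1 hr with h3 | h3
  · exact absurd (h2 h3 s1 h.s1Q) h.ne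
  · rw [h.q.card, h3] at h1
    omega

end Sit

end Cfsg.Agent.H609.T5.Seven
end

-- part: H609/T5/MSevenB
section
/-!
# All elements of order 7 are good

`Q₂ = a Q a⁻¹`, `R₁ = C_Q(w₁)`, `R₂ = C_{Q₂}(w)`, `R₀ = Q ∩ Q₂` of order `7 ^ 3`; `Q R₂` is a Sylow 7-subgroup; the
elements of `R₁ R₂` have conjugates in `Q`.
-/

set_option autoImplicit false
set_option linter.unusedSectionVars false

namespace Cfsg.Agent.H609.T5.Seven

open Subgroup Cfsg Cfsg.Agent.H961.SevLift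
open scoped Pointwise
open Cfsg.Agent.H533.T5 (WPair)

variable {K : Type*} [Group K] [Finite K] {w w1 a s1 : K} {Q : Subgroup K}

/-- `a Q a⁻¹` -/
def Q2 (a : K) (Q : Subgroup K) : Subgroup K := Q.map (MulAut.conj a).toMonoidHom

theorem mem_Q2 {g : K} : g ∈ Q2 a Q ↔ a⁻¹ * g * a ∈ Q := by
  constructor
  · rintro ⟨q, hq, rfl⟩
    have e : a⁻¹ * (a * q * a⁻¹) * a = q := by group
    show a⁻¹ * (a * q * a⁻¹) * a ∈ Q
    rwa [e]
  · intro h
    refine ⟨_, h, ?_⟩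
    show a * (a⁻¹ * g * a) * a⁻¹ = g
    group

namespace Sit

theorem comm2_w1 (h : Sit w w1 a s1 Q) {q : K} (hq : q ∈ Q2 a Q) : q * w1 = w1 * q := by
  have h1 := h.comm_w (mem_Q2.1 hq)
  rw [← h.aw]
  calc q * (a * w * a⁻¹) = a * (a⁻¹ * q * a * w) * a⁻¹ := by group
    _ = a * (w * (a⁻¹ * q * a)) * a⁻¹ := by rw [h1]
    _ = a * w * a⁻¹ * q := by group

theorem norm2 (h : Sit w w1 a s1 Q) {d q : K} (hd : d * w1 = w1 * d) (hq : q ∈ Q2 a Q) : d * q * d⁻¹ ∈ Q2 a Q := by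
  rw [mem_Q2] at hq ⊢
  have h1 : (a⁻¹ * d * a) * w = w * (a⁻¹ * d * a) := by
    calc (a⁻¹ * d * a) * w = a⁻¹ * (d * (a * w * a⁻¹)) * a := by group
      _ = a⁻¹ * ((a * w * a⁻¹) * d) * a := by rw [h.aw, hd]
      _ = _ := by group
  have h2 := h.q.norm _ h1 _ hq
  have e : a⁻¹ * (d * q * d⁻¹) * a = (a⁻¹ * d * a) * (a⁻¹ * q * a) * (a⁻¹ * d * a)⁻¹ := by group
  rwa [e]

theorem comm2 (h : Sit w w1 a s1 Q) {p q : K} (hp : p ∈ Q2 a Q) (hq : q ∈ Q2 a Q) :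
    p * q * p⁻¹ * q⁻¹ ∈ zpowers w1 := by
  obtain ⟨i, hi⟩ := mem_zpowers_iff.1 (h.q.comm _ (mem_Q2.1 hp) _ (mem_Q2.1 hq))
  refine mem_zpowers_iff.2 ⟨i, ?_⟩
  rw [← h.aw, conj_zpow, hi]
  group

theorem a_inv (h : Sit w w1 a s1 Q) : a⁻¹ * w * a = w1⁻¹ := by
  have e : a⁻¹ * w * a = (a⁻¹ * w⁻¹ * a)⁻¹ := by group
  rw [e, ← h.aw1]
  group

theorem w_mem2 (h : Sit w w1 a s1 Q) : w ∈ Q2 a Q := by
  rw [mem_Q2, h.a_inv]
  exact Q.inv_mem h.w1Q

theorem pgroup2 (h : Sit w w1 a s1 Q) : IsPGroup 7 ↥(Q2 a Q) := h.q.pgroup.map _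

/-- `|C_{Q₂}(w)| = 7 ^ 4` -/
theorem card_R2 (h : Sit w w1 a s1 Q) : Nat.card ↥(Q2 a Q ⊓ centralizer ({w} : Set K) : Subgroup K) = 7 ^ 4 := by
  have h1 : Q2 a Q ⊓ centralizer ({w} : Set K) =
      (Q ⊓ centralizer ({w1} : Set K)).map (MulAut.conj a).toMonoidHom := by
    ext g
    constructor
    · rintro ⟨hg, hgw⟩
      refine ⟨a⁻¹ * g * a, ⟨mem_Q2.1 hg, ?_⟩, ?_⟩
      · apply mem_centralizer_singleton_iff.2
        have h2 : g * w⁻¹ = w⁻¹ * g := ((show Commute g w from mem_centralizer_singleton_iff.1 hgw).inv_right).eq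
        calc a⁻¹ * g * a * w1 = a⁻¹ * (g * (a * w1 * a⁻¹)) * a := by group
          _ = a⁻¹ * ((a * w1 * a⁻¹) * g) * a := by rw [h.aw1, h2]
          _ = w1 * (a⁻¹ * g * a) := by group
      · show a * (a⁻¹ * g * a) * a⁻¹ = g
        group
    · rintro ⟨q, ⟨hq, hqw⟩, rfl⟩
      refine ⟨⟨q, hq, rfl⟩, ?_⟩
      apply mem_centralizer_singleton_iff.2
      show a * q * a⁻¹ * w = w * (a * q * a⁻¹)
      have h2 : q * w1⁻¹ = w1⁻¹ * q := ((show Commute q w1 from mem_centralizer_singleton_iff.1 hqw).inv_right).eq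
      calc a * q * a⁻¹ * w = a * (q * (a⁻¹ * w * a)) * a⁻¹ := by group
        _ = a * ((a⁻¹ * w * a) * q) * a⁻¹ := by rw [h.a_inv, h2]
        _ = w * (a * q * a⁻¹) := by group
  rw [h1, card_map_of_injective (f := (MulAut.conj a).toMonoidHom) (MulAut.conj a).injective, h.card_R1]

/-- `C_Q(w₁)` is not contained in `Q₂` -/
theorem not_le (h : Sit w w1 a s1 Q) : ¬ Q ⊓ centralizer ({w1} : Set K) ≤ Q2 a Q := by
  intro hle
  set R1 := Q ⊓ centralizer ({w1} : Set K) with hR1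
  have hR1Q : R1 ≤ Q := inf_le_left
  -- `R1` is abelian
  have hab : ∀ r ∈ R1, ∀ r' ∈ R1, r * r' = r' * r := by
    intro r hr r' hr'
    obtain ⟨i, hi⟩ := mem_zpowers_iff.1 (h.q.comm r (hR1Q hr) r' (hR1Q hr'))
    obtain ⟨j, hj⟩ := mem_zpowers_iff.1 (h.comm2 (hle hr) (hle hr'))
    have h1 : w1 ^ j = 1 := by
      by_contra hne
      apply h.w1n
      have h7 : Fact (Nat.Prime 7) := ⟨by norm_num⟩
      have h2 : orderOf (w1 ^ j) = 7 := by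
        refine orderOf_eq_prime ?_ hne
        rw [← zpow_natCast, ← zpow_mul, mul_comm, zpow_mul, zpow_natCast, ← h.w1o, pow_orderOf_eq_one, one_zpow]
      have h3 : zpowers (w1 ^ j) = zpowers w1 := Subgroup.eq_of_le_of_card_ge (zpowers_le.2 (zpow_mem_zpowers w1 j))
        (by rw [Nat.card_zpowers, Nat.card_zpowers, h2, h.w1o])
      have h4 : w1 ∈ zpowers (w1 ^ j) := by rw [h3]; exact mem_zpowers w1
      have h5 : zpowers (w1 ^ j) ≤ zpowers w := zpowers_le.2 (by rw [hj, ← hi]; exact zpow_mem_zpowers w i)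
      exact h5 h4
    rw [h1] at hj
    have h2 := hj.symm
    rw [mul_inv_eq_one, mul_inv_eq_iff_eq_mul] at h2
    exact h2
  have hs1 : s1 ∉ R1 := fun h1 => h.ne (mem_centralizer_singleton_iff.1 h1.2)
  -- `Q = R1 ⟨s1⟩`
  have hQ : R1 ⊔ zpowers s1 = Q := by
    have hle' : R1 ⊔ zpowers s1 ≤ Q := sup_le hR1Q (zpowers_le.2 h.s1Q)
    apply eq_of_le_of_card_ge hle'
    have h1 : 7 ^ 5 ∣ Nat.card ↥(R1 ⊔ zpowers s1 : Subgroup K) := by
      refine card_step (by norm_num) (h.q.pgroup.to_le hle') (A := R1) ?_ (k := 4) (by rw [h.card_R1])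
      refine lt_of_le_of_ne le_sup_left fun h2 => hs1 ?_
      rw [h2]
      exact mem_sup_right (mem_zpowers s1)
    rw [h.q.card]
    exact Nat.le_of_dvd Nat.card_pos h1
  obtain ⟨r, hr, h1, -⟩ := h.card_comm hR1Q h.s1Q
  have h2 : R1 ⊓ centralizer ({s1} : Set K) ≤ zpowers w := by
    rintro e ⟨he, hes⟩
    refine h.center_le (hR1Q he) fun q hq => ?_
    rw [← hQ] at hq
    have h3 : R1 ⊔ zpowers s1 ≤ centralizer ({e} : Set K) := sup_le (fun r hr => mem_centralizer_singleton_iff.2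
      (hab r hr e he)) (zpowers_le.2 (mem_centralizer_singleton_iff.2 (mem_centralizer_singleton_iff.1 hes).symm))
    exact mem_centralizer_singleton_iff.1 (h3 hq)
  have h3 := Nat.le_of_dvd Nat.card_pos (card_dvd_of_le h2)
  rw [Nat.card_zpowers, h.wo] at h3
  have h4 := Nat.le_of_dvd (by norm_num) hr
  rw [h.card_R1] at h1
  have h5 : 7 ^ 4 ≤ 7 * 7 := by
    rw [h1]
    exact Nat.mul_le_mul h3 h4
  norm_num at h5

theorem inf_le_R1 (h : Sit w w1 a s1 Q) : Q ⊓ Q2 a Q ≤ Q ⊓ centralizer ({w1} : Set K) := by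
  rintro g ⟨hg, hg2⟩
  exact ⟨hg, mem_centralizer_singleton_iff.2 (h.comm2_w1 hg2)⟩

theorem inf_eq (h : Sit w w1 a s1 Q) : Q ⊓ (Q2 a Q ⊓ centralizer ({w} : Set K)) = Q ⊓ Q2 a Q := by
  apply le_antisymm
  · rintro g ⟨hg, hg2, -⟩
    exact ⟨hg, hg2⟩
  · rintro g ⟨hg, hg2⟩
    exact ⟨hg, hg2, h.q.le hg⟩

theorem R2_norm (h : Sit w w1 a s1 Q) : Q2 a Q ⊓ centralizer ({w} : Set K) ≤ normalizer (Q : Set K) := by
  intro g hg
  have h1 := zpowers_le_normalizer (g := g) (B := Q) (fun b hb => h.q.norm g (mem_centralizer_singleton_iff.1 hg.2) b hb)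
  exact h1 (mem_zpowers g)

/-- **The orders of `Q ∩ Q₂` and `Q R₂`.** -/
theorem cards (h : Sit w w1 a s1 Q) (h7 : ¬ 7 ^ 7 ∣ Nat.card K) : Nat.card ↥(Q ⊓ Q2 a Q : Subgroup K) = 7 ^ 3 ∧
    Nat.card ↥(Q ⊔ (Q2 a Q ⊓ centralizer ({w} : Set K)) : Subgroup K) = 7 ^ 6 := by
  have hp : Nat.Prime 7 := by norm_num
  have hF : Fact (Nat.Prime 7) := ⟨hp⟩
  set R2 := Q2 a Q ⊓ centralizer ({w} : Set K) with hR2
  have hP : IsPGroup 7 ↥(Q ⊔ R2 : Subgroup K) := by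
    rw [sup_comm]
    exact IsPGroup.to_sup_of_normal_right' (h.pgroup2.to_le inf_le_left) h.q.pgroup h.R2_norm
  have h1 := Lib.ProductSet.card_mul_card_inf Q R2
  rw [← coe_mul_of_right_le_normalizer_left Q R2 h.R2_norm, h.inf_eq, h.q.card, h.card_R2] at h1
  have h1' : Nat.card ↥(Q ⊔ R2 : Subgroup K) * Nat.card ↥(Q ⊓ Q2 a Q : Subgroup K) = 7 ^ 5 * 7 ^ 4 := h1
  obtain ⟨m, hm⟩ := IsPGroup.iff_card.1 hP
  obtain ⟨n, hn⟩ := IsPGroup.iff_card.1 (h.q.pgroup.to_le (inf_le_left : Q ⊓ Q2 a Q ≤ Q))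
  have h2 : m ≤ 6 := by
    by_contra h3
    apply h7
    refine Dvd.dvd.trans (pow_dvd_pow 7 (by omega : 7 ≤ m)) ?_
    rw [← hm]
    exact card_subgroup_dvd_card _
  have h3 : n ≤ 3 := by
    have h4 : Q ⊓ Q2 a Q < Q ⊓ centralizer ({w1} : Set K) := by
      refine lt_of_le_of_ne h.inf_le_R1 fun h5 => h.not_le ?_
      rw [← h5]
      exact inf_le_right
    have h5 : 7 ^ (n + 1) ∣ 7 ^ 4 := by
      rw [← h.card_R1]
      exact card_step hp (h.q.pgroup.to_le inf_le_left) h4 (by rw [hn])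
    have h6 := (Nat.pow_dvd_pow_iff_le_right (by norm_num)).1 h5
    omega
  rw [hm, hn, ← pow_add, ← pow_add] at h1'
  have h4 : m + n = 9 := Nat.pow_right_injective (le_refl 2 |>.trans (by norm_num : 2 ≤ 7)) h1'
  have h5 : m = 6 := by omega
  have h6 : n = 3 := by omega
  exact ⟨by rw [hn, h6], by rw [hm, h5]⟩

/-- `[Q, r₂]` is not contained in `R₀` for `r₂ ∈ R₂ ∖ Q` -/
theorem exists_comm (h : Sit w w1 a s1 Q) {r2 : K} (hr2 : r2 ∈ Q2 a Q)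
    (hr2Q : r2 ∉ Q) : ∃ u ∈ Q, u * r2 * u⁻¹ * r2⁻¹ ∉ Q ⊓ Q2 a Q := by
  by_contra hcon
  push Not at hcon
  obtain ⟨m, hm, hs⟩ := h.act_of_ne h.s1Q h.ne
  -- the element `v = a s₁ a⁻¹`
  obtain ⟨v, hv⟩ : ∃ v, v = a * s1 * a⁻¹ := ⟨_, rfl⟩
  have hvQ : v ∈ Q2 a Q := by rw [hv]; exact ⟨s1, h.s1Q, rfl⟩
  have hvw1 := h.comm2_w1 hvQ
  have hvw : v * w * v⁻¹ = w * w1 ^ (-m) := by
    have e1 : w = a * w1⁻¹ * a⁻¹ := by
      have : a * w1⁻¹ * a⁻¹ = (a * w1 * a⁻¹)⁻¹ := by rw [conj_inv]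
      rw [this, h.aw1, inv_inv]
    have e2 : a * w ^ (-m) * a⁻¹ = w1 ^ (-m) := by rw [← h.aw, conj_zpow]
    have e3 : s1 * w1⁻¹ * s1⁻¹ = w1⁻¹ * w ^ (-m) := by
      have : s1 * w1⁻¹ * s1⁻¹ = (s1 * w1 * s1⁻¹)⁻¹ := by rw [conj_inv]
      rw [this, hs, mul_inv_rev, ← zpow_neg]
      exact (((show Commute w w1 from h.ww1).zpow_left (-m)).inv_right).eq
    rw [hv]
    calc a * s1 * a⁻¹ * w * (a * s1 * a⁻¹)⁻¹ = a * s1 * a⁻¹ * (a * w1⁻¹ * a⁻¹) * (a * s1 * a⁻¹)⁻¹ := by rw [← e1]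
      _ = a * (s1 * w1⁻¹ * s1⁻¹) * a⁻¹ := by group
      _ = (a * w1⁻¹ * a⁻¹) * (a * w ^ (-m) * a⁻¹) := by rw [e3]; group
      _ = w * w1 ^ (-m) := by rw [← e1, e2]
  -- `j m² = 1` modulo 7
  obtain ⟨j, hj⟩ : ∃ j : ℕ, (7 : ℤ) ∣ 1 - j * m ^ 2 := by
    have h1 : m % 7 = 1 ∨ m % 7 = 2 ∨ m % 7 = 3 ∨ m % 7 = 4 ∨ m % 7 = 5 ∨ m % 7 = 6 := by omega
    have key : ∀ j : ℕ, (1 - (j : ℤ) * m ^ 2) % 7 = (1 - (j : ℤ) * (m % 7) ^ 2) % 7 := by
      intro j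
      have h2 : m ^ 2 ≡ (m % 7) ^ 2 [ZMOD 7] := (Int.mod_modEq m 7).symm.pow 2
      exact (Int.ModEq.refl 1).sub ((Int.ModEq.refl (j : ℤ)).mul h2)
    rcases h1 with h1 | h1 | h1 | h1 | h1 | h1
    · exact ⟨1, Int.dvd_of_emod_eq_zero (by rw [key, h1]; norm_num)⟩
    · exact ⟨2, Int.dvd_of_emod_eq_zero (by rw [key, h1]; norm_num)⟩
    · exact ⟨4, Int.dvd_of_emod_eq_zero (by rw [key, h1]; norm_num)⟩
    · exact ⟨4, Int.dvd_of_emod_eq_zero (by rw [key, h1]; norm_num)⟩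
    · exact ⟨2, Int.dvd_of_emod_eq_zero (by rw [key, h1]; norm_num)⟩
    · exact ⟨1, Int.dvd_of_emod_eq_zero (by rw [key, h1]; norm_num)⟩
  have hvj : v ^ j * w * (v ^ j)⁻¹ = w * w1 ^ (-m * j) := pow_act hvw1 hvw j
  have hvj1 : v ^ j * w1 * (v ^ j)⁻¹ = w1 := by
    rw [((show Commute v w1 from hvw1).pow_left j).eq, mul_inv_cancel_right]
  -- `g = v ^ j s₁`
  obtain ⟨g, hg⟩ : ∃ g, g = v ^ j * s1 := ⟨_, rfl⟩
  have hcw : Commute w w1 := h.ww1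
  have hgw : g * w1 * g⁻¹ = w ^ m := by
    have e1 : v ^ j * w ^ m * (v ^ j)⁻¹ = w ^ m * w1 ^ (-m * j * m) := by
      rw [← conj_zpow, hvj, (hcw.zpow_right _).mul_zpow, ← zpow_mul]
    have e2 : w1 * w1 ^ (-m * j * m) = 1 := by
      rw [← zpow_one_add, ← orderOf_dvd_iff_zpow_eq_one, h.w1o]
      have e3 : 1 + -m * j * m = 1 - j * m ^ 2 := by ring
      rw [e3]
      exact hj
    calc g * w1 * g⁻¹ = v ^ j * (s1 * w1 * s1⁻¹) * (v ^ j)⁻¹ := by rw [hg]; group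
      _ = (v ^ j * w1 * (v ^ j)⁻¹) * (v ^ j * w ^ m * (v ^ j)⁻¹) := by rw [hs]; group
      _ = w1 * (w ^ m * w1 ^ (-m * j * m)) := by rw [hvj1, e1]
      _ = w1 * (w1 ^ (-m * j * m) * w ^ m) := by rw [((hcw.zpow_zpow m _)).eq]
      _ = w ^ m := by rw [← mul_assoc, e2, one_mul]
  -- centralizers of `w ^ m` and `w`
  have hcm : ∀ d : K, d * w ^ m = w ^ m * d → d * w = w * d := by
    intro d hd
    have hF : Fact (Nat.Prime 7) := ⟨by norm_num⟩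
    have h1 : w ^ m ≠ 1 := by
      intro h2
      rw [← orderOf_dvd_iff_zpow_eq_one, h.wo] at h2
      exact hm h2
    have h2 : orderOf (w ^ m) = 7 := by
      refine orderOf_eq_prime ?_ h1
      rw [← zpow_natCast, ← zpow_mul, mul_comm, zpow_mul, zpow_natCast, ← h.wo, pow_orderOf_eq_one, one_zpow]
    have h3 : zpowers (w ^ m) = zpowers w := Subgroup.eq_of_le_of_card_ge (zpowers_le.2 (zpow_mem_zpowers w m))
      (by rw [Nat.card_zpowers, Nat.card_zpowers, h2, h.wo])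
    have h4 : w ∈ zpowers (w ^ m) := by rw [h3]; exact mem_zpowers w
    obtain ⟨i, hi⟩ := mem_zpowers_iff.1 h4
    rw [← hi]
    exact ((show Commute d (w ^ m) from hd).zpow_right i).eq
  -- `g Q₂ g⁻¹ ≤ Q`
  have hB : ∀ q ∈ Q2 a Q, g * q * g⁻¹ ∈ Q := by
    have h1 : (Q2 a Q).map (MulAut.conj g).toMonoidHom ≤ Q := by
      apply h.q.max
      · rintro _ ⟨q, hq, rfl⟩
        rw [mem_centralizer_singleton_iff]
        apply hcm
        show g * q * g⁻¹ * w ^ m = w ^ m * (g * q * g⁻¹)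
        rw [← hgw]
        calc g * q * g⁻¹ * (g * w1 * g⁻¹) = g * (q * w1) * g⁻¹ := by group
          _ = g * w1 * g⁻¹ * (g * q * g⁻¹) := by rw [h.comm2_w1 hq]; group
      · rintro d hd _ ⟨q, hq, rfl⟩
        have hdm : d * w ^ m = w ^ m * d := ((show Commute d w from hd).zpow_right m).eq
        have h2 : (g⁻¹ * d * g) * w1 = w1 * (g⁻¹ * d * g) := by
          calc (g⁻¹ * d * g) * w1 = g⁻¹ * (d * (g * w1 * g⁻¹)) * g := by group
            _ = g⁻¹ * ((g * w1 * g⁻¹) * d) * g := by rw [hgw, hdm]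
            _ = _ := by group
        refine ⟨_, h.norm2 h2 hq, ?_⟩
        show g * (g⁻¹ * d * g * q * (g⁻¹ * d * g)⁻¹) * g⁻¹ = d * (g * q * g⁻¹) * d⁻¹
        group
      · exact h.pgroup2.map _
    intro q hq
    exact h1 ⟨q, hq, rfl⟩
  -- the contradiction
  have hc := hcon s1 h.s1Q
  obtain ⟨r0, hr0⟩ : ∃ r0, r0 = s1 * r2 * s1⁻¹ * r2⁻¹ := ⟨_, rfl⟩
  rw [← hr0] at hc
  have h1 := hB r2 hr2
  obtain ⟨k, hk⟩ := mem_zpowers_iff.1 (h.comm2 ((Q2 a Q).pow_mem hvQ j) ((Q2 a Q).mul_mem hc.2 hr2))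
  have h2 : g * r2 * g⁻¹ = w1 ^ k * (r0 * r2) := by
    rw [hk, hg]
    have e1 : s1 * r2 * s1⁻¹ = r0 * r2 := by rw [hr0]; group
    calc v ^ j * s1 * r2 * (v ^ j * s1)⁻¹ = v ^ j * (s1 * r2 * s1⁻¹) * (v ^ j)⁻¹ := by group
      _ = _ := by rw [e1]; group
  rw [h2] at h1
  apply hr2Q
  have h3 := Q.mul_mem (Q.inv_mem (Q.mul_mem (Q.zpow_mem h.w1Q k) hc.1)) h1
  have e : (w1 ^ k * r0)⁻¹ * (w1 ^ k * (r0 * r2)) = r2 := by group
  rwa [e] at h3

/-- **The elements of `R₁ R₂` have conjugates in `Q`.** -/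
theorem exists_conj (h : Sit w w1 a s1 Q) (h7 : ¬ 7 ^ 7 ∣ Nat.card K) {r1 r2 : K}
    (hr1 : r1 ∈ Q ⊓ centralizer ({w1} : Set K)) (hr2 : r2 ∈ Q2 a Q ⊓ centralizer ({w} : Set K)) :
    ∃ g : K, g * (r1 * r2) * g⁻¹ ∈ Q := by
  by_cases hr2Q : r2 ∈ Q
  · refine ⟨1, ?_⟩
    have e : 1 * (r1 * r2) * 1⁻¹ = r1 * r2 := by group
    rw [e]
    exact Q.mul_mem hr1.1 hr2Q
  have hr2w : r2 * w = w * r2 := mem_centralizer_singleton_iff.1 hr2.2
  have hr2w' : r2⁻¹ * w = w * r2⁻¹ := ((show Commute r2 w from hr2w).inv_left).eq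
  obtain ⟨hc0, -⟩ := h.cards h7
  -- `R₀`
  set R0 := (Q ⊓ Q2 a Q).subgroupOf Q with hR0
  have hR0m : ∀ q : ↥Q, q ∈ R0 ↔ (q : K) ∈ Q2 a Q := by
    intro q
    rw [hR0, mem_subgroupOf]
    exact ⟨fun h => h.2, fun h => ⟨q.2, h⟩⟩
  have hw0 : ∀ q : ↥Q, (q : K) ∈ zpowers w → q ∈ R0 := by
    intro q hq
    rw [hR0m]
    exact zpowers_le.2 h.w_mem2 hq
  have hR0n : R0.Normal := by
    refine ⟨fun n hn g => ?_⟩
    have h1 : g * n * g⁻¹ * n⁻¹ ∈ R0 := hw0 _ (h.q.comm g g.2 n n.2)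
    have h2 := R0.mul_mem h1 hn
    have e : g * n * g⁻¹ * n⁻¹ * n = g * n * g⁻¹ := by group
    rwa [e] at h2
  have hab : ∀ b c : ↥Q ⧸ R0, b * c = c * b := by
    intro b c
    obtain ⟨b, rfl⟩ := QuotientGroup.mk'_surjective R0 b
    obtain ⟨c, rfl⟩ := QuotientGroup.mk'_surjective R0 c
    have h1 : QuotientGroup.mk' R0 (b * c * b⁻¹ * c⁻¹) = 1 :=
      (QuotientGroup.eq_one_iff _).2 (hw0 _ (h.q.comm b b.2 c c.2))
    rw [map_mul, map_mul, map_mul, map_inv, map_inv, mul_inv_eq_one, mul_inv_eq_iff_eq_mul] at h1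
    exact h1
  -- commutators with `r₂`
  have hcm : ∀ u : ↥Q, (u : K) * r2 * (u : K)⁻¹ * r2⁻¹ ∈ Q := by
    intro u
    have h1 := h.q.norm r2 hr2w _ (Q.inv_mem u.2)
    have h2 := Q.mul_mem u.2 h1
    have e : (u : K) * (r2 * (u : K)⁻¹ * r2⁻¹) = (u : K) * r2 * (u : K)⁻¹ * r2⁻¹ := by group
    rwa [e] at h2
  let θ : ↥Q →* ↥Q ⧸ R0 := MonoidHom.mk' (fun u => QuotientGroup.mk' R0 ⟨_, hcm u⟩) (by
    intro u u'
    have h1 : (⟨_, hcm (u * u')⟩ : ↥Q) = u * ⟨_, hcm u'⟩ * u⁻¹ * ⟨_, hcm u⟩ := by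
      apply Subtype.ext
      show ((u : K) * u') * r2 * ((u : K) * u')⁻¹ * r2⁻¹ =
        (u : K) * ((u' : K) * r2 * (u' : K)⁻¹ * r2⁻¹) * (u : K)⁻¹ * ((u : K) * r2 * (u : K)⁻¹ * r2⁻¹)
      group
    rw [h1, map_mul, map_mul, map_mul, map_inv, hab (QuotientGroup.mk' R0 u), mul_inv_cancel_right, hab])
  have hθ : ∀ u, θ u = QuotientGroup.mk' R0 ⟨_, hcm u⟩ := fun u => rfl
  -- the image of `R₁`
  have hR1Q : Q ⊓ centralizer ({w1} : Set K) ≤ Q := inf_le_left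
  let ψ : ↥(Q ⊓ centralizer ({w1} : Set K) : Subgroup K) →* ↥Q ⧸ R0 := (QuotientGroup.mk' R0).comp (inclusion hR1Q)
  have hψ : ∀ r, ψ r = QuotientGroup.mk' R0 (inclusion hR1Q r) := fun r => rfl
  have h1 : Nat.card ↥ψ.ker * Nat.card ↥ψ.range = 7 ^ 4 := by
    rw [← h.card_R1, ← ψ.ker.card_mul_index, index_ker]
  have h2 : Nat.card ↥ψ.ker = 7 ^ 3 := by
    rw [← hc0]
    refine Nat.card_congr ⟨fun r => ⟨((r : ↥(Q ⊓ centralizer ({w1} : Set K) : Subgroup K)) : K), ?_⟩,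
      fun r => ⟨⟨(r : K), h.inf_le_R1 r.2⟩, ?_⟩, fun r => rfl, fun r => rfl⟩
    · have h3 : inclusion hR1Q (r : ↥(Q ⊓ centralizer ({w1} : Set K) : Subgroup K)) ∈ R0 :=
        (QuotientGroup.eq_one_iff _).1 r.2
      exact ⟨(r : ↥(Q ⊓ centralizer ({w1} : Set K) : Subgroup K)).2.1, (hR0m _).1 h3⟩
    · exact (QuotientGroup.eq_one_iff _).2 ((hR0m _).2 r.2.2)
  have h3 : Nat.card ↥ψ.range = 7 := by
    rw [h2] at h1
    omega
  have h4 : θ.range ≤ ψ.range := by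
    rintro _ ⟨u, rfl⟩
    refine ⟨⟨_, hcm u, ?_⟩, rfl⟩
    -- `[u, r₂]` commutes with `w₁`
    apply mem_centralizer_singleton_iff.2
    have hr2w1 : r2 * w1 = w1 * r2 := h.comm2_w1 hr2.1
    obtain ⟨i, hi⟩ := mem_zpowers_iff.1 (h.q.comm _ (Q.inv_mem u.2) w1 h.w1Q)
    have e1 : (u : K)⁻¹ * w1 * u = w ^ i * w1 := by rw [hi]; group
    have hr2' : Commute r2 (w ^ i * w1) :=
      ((show Commute r2 w from hr2w).zpow_right i).mul_right (show Commute r2 w1 from hr2w1)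
    have hr2'' : r2⁻¹ * w1 = w1 * r2⁻¹ := ((show Commute r2 w1 from hr2w1).inv_left).eq
    calc (u : K) * r2 * (u : K)⁻¹ * r2⁻¹ * w1 = (u : K) * r2 * (u : K)⁻¹ * (r2⁻¹ * w1) := by group
      _ = (u : K) * (r2 * ((u : K)⁻¹ * w1 * u)) * (u : K)⁻¹ * r2⁻¹ := by rw [hr2'']; group
      _ = (u : K) * (((u : K)⁻¹ * w1 * u) * r2) * (u : K)⁻¹ * r2⁻¹ := by rw [e1, hr2'.eq]
      _ = w1 * ((u : K) * r2 * (u : K)⁻¹ * r2⁻¹) := by group
  have h5 : θ.range = ψ.range := by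
    apply eq_of_le_of_card_ge h4
    have h6 := card_dvd_of_le h4
    rw [h3] at h6 ⊢
    rcases (Nat.dvd_prime (by norm_num)).1 h6 with h8 | h8
    · exfalso
      rw [Subgroup.card_eq_one] at h8
      obtain ⟨u, hu, hur⟩ := h.exists_comm hr2.1 hr2Q
      apply hur
      have h9 : θ ⟨u, hu⟩ ∈ θ.range := ⟨_, rfl⟩
      rw [h8, mem_bot, hθ] at h9
      have h10 := (QuotientGroup.eq_one_iff _).1 h9
      exact ⟨hcm ⟨u, hu⟩, (hR0m _).1 h10⟩
    · exact h8.ge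
  obtain ⟨u, hu⟩ : ψ ⟨r1, hr1⟩ ∈ θ.range := by rw [h5]; exact ⟨_, rfl⟩
  rw [hθ, hψ] at hu
  have h6 : (⟨r1, hr1.1⟩ : ↥Q)⁻¹ * ⟨_, hcm u⟩ ∈ R0 := by
    rw [← QuotientGroup.eq_one_iff]
    have e : inclusion hR1Q ⟨r1, hr1⟩ = (⟨r1, hr1.1⟩ : ↥Q) := rfl
    rw [e] at hu
    have h7 : QuotientGroup.mk' R0 ((⟨r1, hr1.1⟩ : ↥Q)⁻¹ * ⟨_, hcm u⟩) = 1 := by
      rw [map_mul, map_inv, hu, inv_mul_cancel]
    exact h7
  rw [hR0m] at h6
  have h6' : r1⁻¹ * ((u : K) * r2 * (u : K)⁻¹ * r2⁻¹) ∈ Q2 a Q := h6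
  obtain ⟨r0, hr0⟩ : ∃ r0, r0 = r1⁻¹ * ((u : K) * r2 * (u : K)⁻¹ * r2⁻¹) := ⟨_, rfl⟩
  rw [← hr0] at h6'
  have hr0Q : r0 ∈ Q := by
    rw [hr0]
    exact Q.mul_mem (Q.inv_mem hr1.1) (hcm u)
  -- `u⁻¹ (r₁ r₂) u ∈ Q₂`
  have e1 : r1 * r2 = (u : K) * r2 * (u : K)⁻¹ * (r2⁻¹ * r0⁻¹ * r2) := by rw [hr0]; group
  have hr2w1 : r2 * w1 = w1 * r2 := h.comm2_w1 hr2.1
  have e2 : r2⁻¹ * r0⁻¹ * r2 ∈ Q2 a Q := (Q2 a Q).mul_mem ((Q2 a Q).mul_mem ((Q2 a Q).inv_mem hr2.1)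
    ((Q2 a Q).inv_mem h6')) hr2.1
  have e3 : r2⁻¹ * r0⁻¹ * r2 ∈ Q := by
    have h8 := h.q.norm r2⁻¹ hr2w' _ (Q.inv_mem hr0Q)
    rwa [inv_inv] at h8
  obtain ⟨n, hn⟩ : ∃ n, n = r2⁻¹ * r0⁻¹ * r2 := ⟨_, rfl⟩
  rw [← hn] at e1 e2 e3
  obtain ⟨i, hi⟩ := mem_zpowers_iff.1 (h.q.comm _ (Q.inv_mem u.2) n e3)
  have e4 : (u : K)⁻¹ * (r1 * r2) * u ∈ Q2 a Q := by
    have e5 : (u : K)⁻¹ * (r1 * r2) * u = r2 * (w ^ i * n) := by
      rw [e1, hi]
      group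
    rw [e5]
    exact (Q2 a Q).mul_mem hr2.1 ((Q2 a Q).mul_mem ((Q2 a Q).zpow_mem h.w_mem2 i) e2)
  refine ⟨a⁻¹ * (u : K)⁻¹, ?_⟩
  have e6 := mem_Q2.1 e4
  have e7 : a⁻¹ * (u : K)⁻¹ * (r1 * r2) * (a⁻¹ * (u : K)⁻¹)⁻¹ = a⁻¹ * ((u : K)⁻¹ * (r1 * r2) * u) * a := by group
  rwa [e7]

/-- **All elements of order 7 are good.** -/
theorem good_all (h : Sit w w1 a s1 Q) (h7 : ¬ 7 ^ 7 ∣ Nat.card K) {x : K} (hx : orderOf x = 7) : Good w w1 x := by
  have hF : Fact (Nat.Prime 7) := ⟨by norm_num⟩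
  obtain ⟨-, hc⟩ := h.cards h7
  have hidx : ¬ 7 ∣ (Q ⊔ (Q2 a Q ⊓ centralizer ({w} : Set K)) : Subgroup K).index := by
    intro h1
    apply h7
    rw [← (Q ⊔ (Q2 a Q ⊓ centralizer ({w} : Set K)) : Subgroup K).card_mul_index, hc, pow_succ]
    exact Nat.mul_dvd_mul_left _ h1
  obtain ⟨g, hg⟩ := H533.T5.exists_conj_mem_of_index hidx hx
  refine Good.conj (g := g) ?_
  have hgo : orderOf (g * x * g⁻¹) = 7 := by rw [← MulAut.conj_apply, MulEquiv.orderOf_eq, hx]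
  generalize g * x * g⁻¹ = x' at hg hgo
  have hx1 : x' ≠ 1 := by
    rintro rfl
    rw [orderOf_one] at hgo
    norm_num at hgo
  have h1 : x' ∈ ((Q : Set K) * ((Q2 a Q ⊓ centralizer ({w} : Set K) : Subgroup K) : Set K) : Set K) := by
    rw [← coe_mul_of_right_le_normalizer_left Q _ h.R2_norm]
    exact hg
  obtain ⟨q, hq, r2, hr2, rfl⟩ := h1
  have hr2w : r2 * w = w * r2 := mem_centralizer_singleton_iff.1 hr2.2
  have hr2w1 : r2 * w1 = w1 * r2 := h.comm2_w1 hr2.1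
  by_cases hqw : q * w1 = w1 * q
  · obtain ⟨g, hg⟩ := h.exists_conj h7 (r1 := q) (r2 := r2) ⟨hq, mem_centralizer_singleton_iff.2 hqw⟩ hr2
    refine Good.conj (g := g) (h.good_mem hg ?_)
    intro h2
    exact hx1 (conj_eq_one_iff.1 h2)
  · obtain ⟨m, hm, h2⟩ := h.act_of_ne hq hqw
    refine ⟨1, m, hm, ?_, ?_⟩
    · have e : 1 * (q * r2) * 1⁻¹ = q * r2 := by group
      show (1 * (q * r2) * 1⁻¹) * w = w * (1 * (q * r2) * 1⁻¹)
      rw [e]
      exact ((show Commute q w from h.comm_w hq).mul_left (show Commute r2 w from hr2w)).eq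
    · have e : 1 * (q * r2) * 1⁻¹ = q * r2 := by group
      show (1 * (q * r2) * 1⁻¹) * w1 * (1 * (q * r2) * 1⁻¹)⁻¹ = w1 * w ^ m
      rw [e, ← h2]
      calc q * r2 * w1 * (q * r2)⁻¹ = q * (r2 * w1) * r2⁻¹ * q⁻¹ := by group
        _ = q * w1 * q⁻¹ := by rw [hr2w1]; group

end Sit

end Cfsg.Agent.H609.T5.Seven
end
end

-- part: H609/T5/MMidSeven
section
set_option linter.all false
open scoped Cfsg.Agent.FastGrp

-- part: H609/T5/MSeven
section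
/-!
# The weak pair rows of the Monster, `p = 5, 7`

`row_m : Spor.IsoM K → WRow 5 K ∧ WRow 7 K`.
-/

set_option autoImplicit false
set_option maxRecDepth 100000

namespace Cfsg.Agent.H609.T5

open Subgroup Cfsg
open Cfsg.Agent.H533.T5 (WPair WRow)
open Cfsg.Agent.MonsterX Cfsg.Agent.MonsterX.InstData

end Cfsg.Agent.H609.T5
end

-- part: H609/T5/MMidSeven
section
/-!
# The middle row of the Monster, `p = 7` (for S2275)

`Seven.Good.mpair` : two good elements have powers `X`, `V` such that `(X V)²` inverts `w`.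
`mrow_m_seven : Spor.IsoM K → MRow 7 K`, no hypotheses.
-/

set_option autoImplicit false
set_option maxRecDepth 100000

namespace Cfsg.Agent.H609.T5

open Subgroup Cfsg
open Cfsg.Agent.H957.T5M (MPair MRow)
open Cfsg.Agent.MonsterX Cfsg.Agent.MonsterX.InstData

namespace Seven

variable {K : Type*} [Group K] {w w1 a x y : K}

/-- `t j = 2` modulo 7 has a solution -/
theorem exists_two {t : ℤ} (ht : ¬ (7 : ℤ) ∣ t) : ∃ j : ℕ, (7 : ℤ) ∣ t * j - 2 := by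
  have h1 : t % 7 = 1 ∨ t % 7 = 2 ∨ t % 7 = 3 ∨ t % 7 = 4 ∨ t % 7 = 5 ∨ t % 7 = 6 := by omega
  rcases h1 with h1 | h1 | h1 | h1 | h1 | h1
  · exact ⟨2, by push_cast; omega⟩
  · exact ⟨1, by push_cast; omega⟩
  · exact ⟨3, by push_cast; omega⟩
  · exact ⟨4, by push_cast; omega⟩
  · exact ⟨6, by push_cast; omega⟩
  · exact ⟨5, by push_cast; omega⟩

theorem inv_iter {R : K} (h : R * w * R⁻¹ = w⁻¹) (i : ℕ) : R ^ (2 * i + 1) * w * (R ^ (2 * i + 1))⁻¹ = w⁻¹ := by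
  have h1 : Commute (R ^ 2) w := by
    have h2 : R ^ 2 * w * (R ^ 2)⁻¹ = w := by
      calc R ^ 2 * w * (R ^ 2)⁻¹ = R * (R * w * R⁻¹) * R⁻¹ := by rw [pow_two]; group
        _ = R * w⁻¹ * R⁻¹ := by rw [h]
        _ = (R * w * R⁻¹)⁻¹ := by group
        _ = w := by rw [h, inv_inv]
    exact mul_inv_eq_iff_eq_mul.1 h2
  have h3 := (h1.pow_left i).eq
  calc R ^ (2 * i + 1) * w * (R ^ (2 * i + 1))⁻¹
      = R * ((R ^ 2) ^ i * w * ((R ^ 2) ^ i)⁻¹) * R⁻¹ := by rw [pow_succ', pow_mul]; group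
    _ = w⁻¹ := by rw [h3, mul_inv_cancel_right, h]

/-- **Opposite transvections**: for some `j` no 7-power of `X V ^ j` is trivial. -/
theorem exists_pow {X V : K} {m n : ℤ} (hwo : orderOf w = 7) (hww1 : w * w1 = w1 * w)
    (hm : ¬ (7 : ℤ) ∣ m) (hn : ¬ (7 : ℤ) ∣ n) (h1 : X * w = w * X) (h2 : X * w1 * X⁻¹ = w1 * w ^ m)
    (h3 : V * w1 = w1 * V) (h4 : V * w * V⁻¹ = w * w1 ^ (-n)) :
    ∃ j : ℕ, ∀ k : ℕ, (X * V ^ j) ^ 7 ^ k ≠ 1 := by
  obtain ⟨j, hj⟩ := exists_two (not_dvd_mul hm hn)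
  refine ⟨j, fun k hk => ?_⟩
  have hcw : Commute w w1 := hww1
  obtain ⟨c, hc⟩ : ∃ c : ℤ, c = -n * j := ⟨_, rfl⟩
  have e1 : V ^ j * w * (V ^ j)⁻¹ = w * w1 ^ c := by
    rw [hc]
    exact pow_act h3 h4 j
  have e2 : V ^ j * w1 * (V ^ j)⁻¹ = w1 := by
    rw [((show Commute V w1 from h3).pow_left j).eq, mul_inv_cancel_right]
  have e3 : X * w * X⁻¹ = w := by rw [h1, mul_inv_cancel_right]
  obtain ⟨P, hP⟩ : ∃ P, P = X * V ^ j := ⟨_, rfl⟩
  -- the action of `P`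
  have hmc : m * c = -(m * n * j) := by rw [hc]; ring
  have hw2 : w ^ (m * c) = w ^ (-2 : ℤ) := by
    have e4 : w ^ (m * c + 2) = 1 := by
      rw [← orderOf_dvd_iff_zpow_eq_one, hwo, hmc]
      have e5 : -(m * n * j) + 2 = -(m * n * j - 2) := by ring
      push_cast
      rw [e5, dvd_neg]
      exact hj
    have e6 : w ^ (m * c) * w ^ (2 : ℤ) = 1 := by rw [← zpow_add, e4]
    rw [eq_inv_of_mul_eq_one_left e6, zpow_neg]
  have p1 : P * w * P⁻¹ = w⁻¹ * w1 ^ c := by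
    calc P * w * P⁻¹ = X * (V ^ j * w * (V ^ j)⁻¹) * X⁻¹ := by rw [hP]; group
      _ = (X * w * X⁻¹) * (X * w1 * X⁻¹) ^ c := by rw [e1, conj_zpow]; group
      _ = w * (w1 ^ c * w ^ (m * c)) := by
        rw [e3, h2, ((hcw.zpow_left m).symm).mul_zpow, ← zpow_mul]
      _ = w * (w ^ (m * c) * w1 ^ c) := by rw [((hcw.zpow_zpow (m * c) c)).eq]
      _ = w⁻¹ * w1 ^ c := by rw [hw2]; group
  have p2 : P * w1 * P⁻¹ = w1 * w ^ m := by
    calc P * w1 * P⁻¹ = X * (V ^ j * w1 * (V ^ j)⁻¹) * X⁻¹ := by rw [hP]; group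
      _ = w1 * w ^ m := by rw [e2, h2]
  have q : P * (w⁻¹ * w1 ^ c) * P⁻¹ = (P * w * P⁻¹)⁻¹ * (P * w1 * P⁻¹) ^ c := by rw [conj_zpow]; group
  have p3 : P ^ 2 * w * (P ^ 2)⁻¹ = w⁻¹ := by
    calc P ^ 2 * w * (P ^ 2)⁻¹ = P * (P * w * P⁻¹) * P⁻¹ := by rw [pow_two]; group
      _ = P * (w⁻¹ * w1 ^ c) * P⁻¹ := by rw [p1]
      _ = (w⁻¹ * w1 ^ c)⁻¹ * (w1 * w ^ m) ^ c := by rw [q, p1, p2]
      _ = (w1 ^ c)⁻¹ * w * (w1 ^ c * w ^ (m * c)) := by
        rw [((hcw.zpow_left m).symm).mul_zpow, ← zpow_mul, mul_inv_rev, inv_inv]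
      _ = (w1 ^ c)⁻¹ * (w * w1 ^ c) * w ^ (m * c) := by group
      _ = w * w ^ (m * c) := by rw [(hcw.zpow_right c).eq]; group
      _ = w⁻¹ := by rw [hw2]; group
  -- iterate
  have p4 := inv_iter p3
  obtain ⟨i, hi⟩ : ∃ i : ℕ, 7 ^ k = 2 * i + 1 := by
    have h5 : Odd (7 ^ k) := Odd.pow (by decide)
    exact h5
  have p5 : (P ^ 2) ^ (2 * i + 1) = 1 := by
    rw [← hi, ← pow_mul, mul_comm, pow_mul, hP, hk, one_pow]
  have p6 := p4 i
  rw [p5, one_mul, inv_one, mul_one] at p6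
  have p7 : w ^ 2 = 1 := by
    rw [pow_two]
    nth_rewrite 1 [p6]
    exact inv_mul_cancel w
  have p8 := orderOf_dvd_of_pow_eq_one p7
  rw [hwo] at p8
  norm_num at p8

/-- **Two good elements form a middle pair.** -/
theorem Good.mpair (hwo : orderOf w = 7) (hww1 : w * w1 = w1 * w)
    (haw : a * w * a⁻¹ = w1) (haw1 : a * w1 * a⁻¹ = w⁻¹) (hx : Good w w1 x)
    (hy : Good w w1 y) : MPair 7 (⊤ : Subgroup K) x y := by
  obtain ⟨k, m, hm, h1, h2⟩ := hx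
  obtain ⟨l, n, hn, h3, h4⟩ := hy
  refine (MPair.conj_left (mem_top k) (MPair.conj_right (mem_top (a * l)) ?_) :)
  have e : (a * l * y * (a * l)⁻¹) = a * (l * y * l⁻¹) * a⁻¹ := by group
  rw [e]
  generalize k * x * k⁻¹ = X at h1 h2
  generalize l * y * l⁻¹ = Y at h3 h4
  obtain ⟨j, hj⟩ := exists_pow (K := K) (X := X) (V := a * Y * a⁻¹) hwo hww1 hm hn h1 h2
    (by
      rw [← haw]
      calc a * Y * a⁻¹ * (a * w * a⁻¹) = a * (Y * w) * a⁻¹ := by group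
        _ = a * w * a⁻¹ * (a * Y * a⁻¹) := by rw [h3]; group)
    (by
      have e1 : w = a * w1⁻¹ * a⁻¹ := by
        have : a * w1⁻¹ * a⁻¹ = (a * w1 * a⁻¹)⁻¹ := by rw [conj_inv]
        rw [this, haw1, inv_inv]
      have e2 : a * w ^ (-n) * a⁻¹ = w1 ^ (-n) := by rw [← haw, conj_zpow]
      have e3 : Y * w1⁻¹ * Y⁻¹ = w1⁻¹ * w ^ (-n) := by
        have : Y * w1⁻¹ * Y⁻¹ = (Y * w1 * Y⁻¹)⁻¹ := by rw [conj_inv]
        rw [this, h4, mul_inv_rev, ← zpow_neg]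
        exact (((show Commute w w1 from hww1).zpow_left (-n)).inv_right).eq
      calc a * Y * a⁻¹ * w * (a * Y * a⁻¹)⁻¹ = a * Y * a⁻¹ * (a * w1⁻¹ * a⁻¹) * (a * Y * a⁻¹)⁻¹ := by rw [← e1]
        _ = a * (Y * w1⁻¹ * Y⁻¹) * a⁻¹ := by group
        _ = (a * w1⁻¹ * a⁻¹) * (a * w ^ (-n) * a⁻¹) := by rw [e3]; group
        _ = w * w1 ^ (-n) := by rw [← e1, e2])
  refine ⟨1, mem_top _, 1, j, ?_⟩
  rw [pow_one, one_mul, inv_one, mul_one]
  exact hj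

end Seven

/-- the pairs of elements of order 7 of the model -/
theorem mpair_seven_model {r s : ↥InstData.M.G} (hr : orderOf r = 7) (hs : orderOf s = 7) :
    MPair 7 (⊤ : Subgroup ↥InstData.M.G) r s := by
  have hfin := MFive.Row.finite_model
  have h7 : ¬ 7 ^ 7 ∣ Nat.card ↥InstData.M.G := by
    rw [H961.SevM.card_model]
    norm_num
  obtain ⟨y, v, s', a, c, w, hL, h5⟩ := H961.SevM.exists_data'
  obtain ⟨Q, hQ, -⟩ := H961.SevM.exists_qq hL h5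
  obtain ⟨s1, hS⟩ := Seven.exists_sit hL hQ h5 h7
  exact Seven.Good.mpair hS.wo hS.ww1 hS.aw hS.aw1 (hS.good_all h7 hr) (hS.good_all h7 hs)

/-- **Middle rows of the Monster from the model.** -/
theorem mrow_of_model_m {p : ℕ} (hp : p.Prime) (hp2 : p ≠ 2)
    (hm : ∀ r s : ↥InstData.M.G, orderOf r = p → orderOf s = p → MPair p (⊤ : Subgroup ↥InstData.M.G) r s)
    {K : Type*} [Group K] [Finite K] [IsSimpleGroup K] (h : Spor.IsoM K) : MRow p K := by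
  have hinn := BpSpor.Inn.m h
  obtain ⟨e⟩ := h
  obtain ⟨f⟩ := MonsterP.Equiv.equiv
  have hna : ¬ IsMulCommutative K := na_of_card (by
    rw [Nat.card_congr (e.trans f).toEquiv, MonsterP.EquivOf.isM_model.2]
    norm_num)
  refine MRow.of_inner hna (fun a ha => ?_) (fun x y hx hy => ?_)
  · obtain ⟨g, rfl⟩ := hinn p hp hp2 a ha
    exact ⟨g, rfl⟩
  · have h1 : orderOf (e.trans f x) = p := by rw [MulEquiv.orderOf_eq, hx]
    have h2 : orderOf (e.trans f y) = p := by rw [MulEquiv.orderOf_eq, hy]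
    refine MPair.of_hom (e.trans f).toMonoidHom ?_ (hm _ _ h1 h2)
    intro w _
    exact ⟨(e.trans f).symm w, mem_top _, (e.trans f).apply_symm_apply w⟩

/-- **The middle row of the Monster, `p = 7`.** -/
theorem mrow_m_seven {K : Type*} [Group K] [Finite K] [IsSimpleGroup K] (h : Spor.IsoM K) : MRow 7 K :=
  mrow_of_model_m (by norm_num) (by norm_num) (fun _ _ hr hs => mpair_seven_model hr hs) h

end Cfsg.Agent.H609.T5
end
end

-- part: H609/Inv/Base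
section
set_option linter.all false
open scoped Cfsg.Agent.FastGrp

/-!
# Involutions and elements of prime order in the Monster: tools (for S3830)

* `irow_of_model_m` : the row of the Monster from the model;
* `irow_of_ih` : the induction hypothesis for simple groups of another universe;
* `ns_of_XX` : `r ∈ C(d) ∖ ⟨d⟩`, `C(d)/⟨d⟩` simple, satisfying the row: `NS (conj r)`.
-/

set_option autoImplicit false
set_option maxRecDepth 100000

namespace Cfsg.Agent.H609.Inv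

open Subgroup Cfsg Cfsg.Agent.H459.Inv
open Cfsg.Agent.MonsterX Cfsg.Agent.MonsterX.InstData
open Cfsg.Agent.LThreeMB (XX Zx self self_mem_center)

universe u

theorem not_comm_of_card {L : Type*} [Group L] [IsSimpleGroup L] {n : ℕ} (hc : Nat.card L = n) (hn : ¬ n.Prime)
    (h0 : n ≠ 0) : ¬ IsMulCommutative L := by
  intro h
  have hfin : Finite L := Nat.finite_of_card_ne_zero (by rw [hc]; exact h0)
  let _ : CommGroup L := { (inferInstance : Group L) with mul_comm := fun a b => h.is_comm.comm a b }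
  have h1 : (Nat.card L).Prime := IsSimpleGroup.prime_card
  rw [hc] at h1
  exact hn h1

/-- the induction hypothesis in another universe -/
theorem irow_of_ih {p n : ℕ} (hI : IH.{u} p n) {L : Type} [Group L] [Finite L] [hs : IsSimpleGroup L]
    (hna : ¬ IsMulCommutative L) (hc : Nat.card L < n) : IRow p L := by
  have hf : Finite (ULift.{u} L) := Finite.of_equiv _ (Equiv.ulift : ULift.{u} L ≃ L).symm
  have hnt : Nontrivial (ULift.{u} L) := (MulEquiv.ulift : ULift.{u} L ≃* L).symm.injective.nontrivial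
  have hs' : IsSimpleGroup (ULift.{u} L) :=
    IsSimpleGroup.isSimpleGroup_of_surjective (MulEquiv.ulift : ULift.{u} L ≃* L).symm.toMonoidHom
      (MulEquiv.ulift : ULift.{u} L ≃* L).symm.surjective
  refine IRow.congr (MulEquiv.ulift : ULift.{u} L ≃* L).symm (hI (ULift.{u} L) (fun h => hna ⟨⟨fun a b => ?_⟩⟩) ?_)
  · have h1 := h.is_comm.comm (ULift.up.{u} a) (ULift.up.{u} b)
    exact congrArg ULift.down h1
  · rwa [Nat.card_congr Equiv.ulift]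

/-- **The row of the Monster from the model.** -/
theorem irow_of_model_m {p : ℕ} (hp : p.Prime) (hp2 : p ≠ 2)
    (hm : ∀ r : ↥InstData.M.G, orderOf r = p → NS (MulAut.conj r))
    {K : Type*} [Group K] [Finite K] [IsSimpleGroup K] (h : Spor.IsoM K) : IRow p K := by
  have hinn := BpSpor.Inn.m h
  obtain ⟨e⟩ := h
  obtain ⟨f⟩ := MonsterP.Equiv.equiv
  have hna : ¬ IsMulCommutative K := not_comm_of_card (n := 808017424794512875886459904961710757005754368000000000)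
    (by rw [Nat.card_congr (e.trans f).toEquiv, MonsterP.EquivOf.isM_model.2]) (by norm_num) (by norm_num)
  have hinj := Cfsg.Agent.H459.CycFalse.conj_injective (K := K) (Cfsg.Agent.H459.CycFalse.center_eq_bot hna)
  intro x hx
  obtain ⟨g, rfl⟩ := hinn p hp hp2 x hx
  rw [orderOf_injective _ hinj] at hx
  apply ns_of_tr (e.trans f)
  have h1 : Cfsg.Agent.H459.Rad.tr (e.trans f) (MulAut.conj g) = MulAut.conj (e.trans f g) := by
    apply MulEquiv.ext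
    intro k
    show (e.trans f) (MulAut.conj g ((e.trans f).symm k)) = MulAut.conj (e.trans f g) k
    rw [MulAut.conj_apply, map_mul, map_mul, map_inv, (e.trans f).apply_symm_apply, MulAut.conj_apply]
  rw [h1]
  exact hm _ (by rw [MulEquiv.orderOf_eq, hx])

theorem ns_conj {K : Type*} [Group K] {g k : K} (h : NS (MulAut.conj (k * g * k⁻¹))) : NS (MulAut.conj g) := by
  apply ns_of_conj (g := MulAut.conj k)
  rwa [← map_inv, ← map_mul, ← map_mul]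

section XX

variable {G : Type*} [Group G] [Finite G] {p : ℕ} [hp : Fact p.Prime]

/-- **`r ∈ C(d) ∖ ⟨d⟩` of order `p`, `C(d)/⟨d⟩` simple and satisfies the row.** -/
theorem ns_of_XX {d r : G} (hd : Odd (orderOf d)) [IsSimpleGroup (XX d)] (hna : ¬ IsMulCommutative (XX d))
    (hrow : IRow p (XX d)) (hr : orderOf r = p) (hrd : r * d = d * r) (hn : r ∉ zpowers d) : NS (MulAut.conj r) := by
  have hfin : Finite (XX d) := Finite.of_surjective _ (QuotientGroup.mk'_surjective (Zx d))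
  have hrC : r ∈ centralizer ({d} : Set G) := mem_centralizer_singleton_iff.2 hrd
  have hM : ∀ m ∈ centralizer ({d} : Set G), MulAut.conj r m ∈ centralizer ({d} : Set G) := by
    intro m hm
    rw [MulAut.conj_apply]
    exact mul_mem (mul_mem hrC hm) (inv_mem hrC)
  have hne : QuotientGroup.mk' (Zx d) ⟨r, hrC⟩ ≠ 1 := by
    intro h1
    have h2 : (⟨r, hrC⟩ : ↥(centralizer ({d} : Set G))) ∈ Zx d := (QuotientGroup.eq_one_iff _).1 h1
    obtain ⟨i, hi⟩ := mem_zpowers_iff.1 h2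
    exact hn (mem_zpowers_iff.2 ⟨i, congrArg Subtype.val hi⟩)
  have ho : orderOf (QuotientGroup.mk' (Zx d) ⟨r, hrC⟩) = p := by
    refine orderOf_eq_prime ?_ hne
    rw [← map_pow]
    have h1 : (⟨r, hrC⟩ : ↥(centralizer ({d} : Set G))) ^ p = 1 := Subtype.ext (by
      show r ^ p = 1
      rw [← hr, pow_orderOf_eq_one])
    rw [h1, map_one]
  have hinj := Cfsg.Agent.H459.CycFalse.conj_injective (K := XX d) (Cfsg.Agent.H459.CycFalse.center_eq_bot hna)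
  refine ns_of_odd hM (QuotientGroup.mk' (Zx d)) (QuotientGroup.mk'_surjective _) ?_
    (MulAut.conj (QuotientGroup.mk' (Zx d) ⟨r, hrC⟩)) ?_ (hrow _ (by rw [orderOf_injective _ hinj, ho]))
  · rw [QuotientGroup.ker_mk']
    have h1 : Nat.card ↥(Zx d) = orderOf d := by
      show Nat.card ↥(zpowers (self d)) = _
      rw [Nat.card_zpowers, ← Subgroup.orderOf_coe]
      rfl
    rw [h1]
    exact hd
  · intro m
    rfl

end XX

end Cfsg.Agent.H609.Inv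
end
end
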