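import Cfsg.Agent.H478.RadTools_m3
import Cfsg.Agent.H109.NrOrb_m3
import Cfsg.Agent.H609.Inv.Base
import Cfsg.Agent.H31.TwoCyc.MThirteen
import Cfsg.Agent.Lib.ElemAbGL
import Cfsg.Agent.SmallSimple.BurnsideNC
import Cfsg.Agent.FastGrp
import Cfsg.Agent.Prune
set_option linter.all false

section
prune_inst 0x7ffcfefbeff8bddfffff7e7ffffddffe19d4dfffefdff94bffedfbffbfff23672be5fbaf0de458fedef6e23410b87813ff7eeeffe36fdd7ffffd5ff45ffbee1ff7ffbf2911d69c341f766ffffbf17faf7f3fffffffffffffffffffffffffffffffffffffffff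

-- part: H609/Inv/Transv
section
set_option linter.all false
open scoped Cfsg.Agent.FastGrp

/-!
# A transvection and a reflection (for S3830, sporadic rows)

`w`, `w₁` of order `p ≥ 5` commute, `w₁ ∉ ⟨w⟩`; `X` fixes `w` and maps `w₁` to `w₁ w ^ m`; the involution `t` fixes
`w₁` and maps `w` to `w⁻¹ w₁ ^ j`; `p ∤ m`, `p ∤ j`. Then `⟨X, t⟩` is not solvable.
-/

set_option autoImplicit false

namespace Cfsg.Agent.H609.Inv

open Subgroup Cfsg Cfsg.Agent.H459.Inv

variable {K : Type*} [Group K] {p : ℕ} [hp : Fact p.Prime] {w w1 X t : K} {m j : ℤ}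

/-- **A transvection and a reflection.** -/
theorem not_solvable_refl (hp5 : 5 ≤ p) (hw : orderOf w = p) (hw1 : orderOf w1 = p) (hc : w * w1 = w1 * w)
    (hn : w1 ∉ zpowers w) (hm : ¬ (p : ℤ) ∣ m) (hj : ¬ (p : ℤ) ∣ j) (hX : X * w = w * X)
    (hX1 : X * w1 * X⁻¹ = w1 * w ^ m) (ht2 : t * t = 1) (ht : t * w * t⁻¹ = w⁻¹ * w1 ^ j) :
    ¬ Group.IsSolvable ↥(closure ({X, t} : Set K)) := by
  have hti : t⁻¹ = t := inv_eq_of_mul_eq_one_left ht2
  have hcw : Commute w w1 := hc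
  obtain ⟨e2, he2⟩ : ∃ e2, e2 = t * w * t⁻¹ := ⟨_, rfl⟩
  have hmj : ¬ (p : ℤ) ∣ m * j := by
    intro h
    rcases (Nat.prime_iff_prime_int.1 hp.out).dvd_or_dvd h with h | h
    · exact hm h
    · exact hj h
  -- `t e₂ t⁻¹ = w`
  have h1 : t * e2 * t⁻¹ = w := by
    rw [he2]
    calc t * (t * w * t⁻¹) * t⁻¹ = (t * t) * w * (t * t)⁻¹ := by group
      _ = w := by rw [ht2]; group
  have h2 : orderOf e2 = p := by rw [he2, ← MulAut.conj_apply, MulEquiv.orderOf_eq, hw]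
  have h3 : Commute w e2 := by
    rw [he2, ht]
    exact ((Commute.refl w).inv_right).mul_right (hcw.zpow_right j)
  have h4 : X * e2 * X⁻¹ = e2 * w ^ (m * j) := by
    have e1 : X * w⁻¹ * X⁻¹ = w⁻¹ := by
      rw [((show Commute X w from hX).inv_right).eq, mul_inv_cancel_right]
    calc X * e2 * X⁻¹ = (X * w⁻¹ * X⁻¹) * (X * w1 * X⁻¹) ^ j := by rw [he2, ht, conj_zpow]; group
      _ = w⁻¹ * (w1 ^ j * w ^ (m * j)) := by
        rw [e1, hX1, ((hcw.zpow_left m).symm).mul_zpow, ← zpow_mul]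
      _ = e2 * w ^ (m * j) := by rw [he2, ht]; group
  -- `e₂ ∉ ⟨w⟩`
  have h5 : e2 ∉ zpowers w := by
    intro h
    obtain ⟨i, hi⟩ := mem_zpowers_iff.1 h
    rw [he2, ht] at hi
    apply hn
    -- `w₁ ^ j ∈ ⟨w⟩`
    have e1 : w1 ^ j ∈ zpowers w := by
      have : w1 ^ j = w * w ^ i := by rw [hi]; group
      rw [this]
      exact mul_mem (mem_zpowers w) (zpow_mem_zpowers w i)
    -- a power of `w₁ ^ j` is `w₁`
    have hco : IsCoprime j (p : ℤ) := (((Nat.prime_iff_prime_int.1 hp.out).coprime_iff_not_dvd).2 hj).symm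
    obtain ⟨a, b, hab⟩ := hco
    have e2' : w1 = (w1 ^ j) ^ a := by
      have e3 : w1 ^ (a * j + b * p) = w1 := by rw [hab, zpow_one]
      rw [zpow_add, mul_comm b, zpow_mul w1 (p : ℤ) b, zpow_natCast, ← hw1, pow_orderOf_eq_one, one_zpow, mul_one,
        mul_comm, zpow_mul] at e3
      exact e3.symm
    rw [e2']
    exact zpow_mem e1 a
  refine fun hs => H839.Rad.not_solvable_closure (K := K) (p := p) hp5 hw h2 h3.eq h5 (u := X) (v := t * X * t⁻¹)
    (m := m * j) (n := m * j) hmj hmj hX h4 ?_ ?_ ?_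
  · have e1 : t * X * t⁻¹ * (t * w * t⁻¹) = t * w * t⁻¹ * (t * X * t⁻¹) := by
      calc t * X * t⁻¹ * (t * w * t⁻¹) = t * (X * w) * t⁻¹ := by group
        _ = _ := by rw [hX]; group
    rw [he2]
    exact e1
  · calc t * X * t⁻¹ * w * (t * X * t⁻¹)⁻¹ = t * X * t⁻¹ * (t * e2 * t⁻¹) * (t * X * t⁻¹)⁻¹ := by rw [h1]
      _ = t * (X * e2 * X⁻¹) * t⁻¹ := by group
      _ = (t * e2 * t⁻¹) * (t * w * t⁻¹) ^ (m * j) := by rw [h4, conj_zpow]; group
      _ = w * e2 ^ (m * j) := by rw [h1, he2]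
  · refine Group.isSolvable_of_isSolvable_injective
      (f := inclusion (?_ : closure ({X, t * X * t⁻¹} : Set K) ≤ closure ({X, t} : Set K))) (inclusion_injective _)
    rw [closure_le]
    have hXm : X ∈ closure ({X, t} : Set K) := Subgroup.subset_closure (Set.mem_insert _ _)
    have htm : t ∈ closure ({X, t} : Set K) := Subgroup.subset_closure (Set.mem_insert_of_mem _ rfl)
    rintro y (rfl | rfl)
    · exact hXm
    · exact mul_mem (mul_mem htm hXm) (inv_mem htm)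

/-- the form for S3830 -/
theorem ns_of_refl (hp5 : 5 ≤ p) (hw : orderOf w = p) (hw1 : orderOf w1 = p) (hc : w * w1 = w1 * w)
    (hn : w1 ∉ zpowers w) (hm : ¬ (p : ℤ) ∣ m) (hj : ¬ (p : ℤ) ∣ j) (hX : X * w = w * X)
    (hX1 : X * w1 * X⁻¹ = w1 * w ^ m) (ht2 : orderOf t = 2) (ht : t * w * t⁻¹ = w⁻¹ * w1 ^ j) :
    NS (MulAut.conj X) :=
  ns_of_inner ht2 (not_solvable_refl hp5 hw hw1 hc hn hm hj hX hX1
    (by rw [← pow_two, ← ht2, pow_orderOf_eq_one]) ht)

end Cfsg.Agent.H609.Inv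
end

-- part: H609/Inv/MThirC
section
prune_inst 0x2000000000000200000000000000000010000000100000010000000220000000000000000000000000000000000000000000000000000000000000000002000000000000000000000000000000000000000000000000
set_option linter.all false
open scoped Cfsg.Agent.FastGrp

-- part: H609/Inv/MThirA
section
/-!
# S3830: the Monster, `p = 13`: the Sylow subgroup and a 2-group of order 32

`RW x z Q R W` : `R` is a Sylow 13-subgroup with `x` central in `R`, `Q` normalises `R`, `W` of order 32 normalises `R`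
and `⟨x⟩`.
-/

set_option autoImplicit false
set_option maxRecDepth 100000
set_option linter.unusedSectionVars false

namespace Cfsg.Agent.H609.Inv.Thirteen

open Subgroup Cfsg Cfsg.Agent.H459.Inv
open Cfsg.Agent.H131.T5M13 (D TB zp exists_syl exists_conj_le orderOf_conj' exists_nat_pow mem_normalizer_of eight_dvd pow5)

universe u

variable {G : Type u} [Group G] [Finite G] {x z t : G} {Q : Subgroup G}

/-- The Sylow subgroup with a group of automorphisms of order 32. -/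
structure RW (x : G) (Q R W : Subgroup G) : Prop where
  card : Nat.card ↥R = 13 ^ 3
  mem : x ∈ R
  cen : ∀ r ∈ R, r * x = x * r
  qr : ∀ q ∈ Q, ∀ r ∈ R, q * r * q⁻¹ ∈ R
  no : ∀ k ∈ Q, ∀ l ∈ Q, k * l ≠ l * k → ¬ ∀ r ∈ R, (k * l * k⁻¹ * l⁻¹) * r * (k * l * k⁻¹ * l⁻¹)⁻¹ = r
  wr : ∀ w ∈ W, ∀ r ∈ R, w * r * w⁻¹ ∈ R
  wx : ∀ w ∈ W, ∀ c ∈ zpowers x, w * c * w⁻¹ ∈ zpowers x
  cardW : Nat.card ↥W = 32

theorem exists_RW (h : D x z t Q) : ∃ R W : Subgroup G, RW x Q R W := by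
  have hp : Fact (Nat.Prime 13) := ⟨by norm_num⟩
  have h2 : Fact (Nat.Prime 2) := ⟨Nat.prime_two⟩
  obtain ⟨R, hRp, hxR, hRx, hQR, hRc, hno⟩ := h.hyp.exists_R
  -- Frattini
  obtain ⟨c, hc⟩ := h.four
  have hx13 : x ^ 13 = 1 := by rw [← h.hyp.hx, pow_orderOf_eq_one]
  have hcR : ∀ r ∈ R, (c * r * c⁻¹) * x = x * (c * r * c⁻¹) := by
    intro r hr
    -- `x = (x ^ 5) ^ 8`
    have h1 : x = c * x ^ 8 * c⁻¹ := by
      rw [← conj_pow, hc, ← pow_mul]
      calc x = x ^ 13 * x ^ 13 * x ^ 13 * x := by rw [hx13]; group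
        _ = x ^ (5 * 8) := by rw [← pow_add, ← pow_add, ← pow_succ]
    have h2 : Commute r (x ^ 8) := (show Commute r x from hRx r hr).pow_right 8
    calc (c * r * c⁻¹) * x = (c * r * c⁻¹) * (c * x ^ 8 * c⁻¹) := by rw [← h1]
      _ = c * (r * x ^ 8) * c⁻¹ := by group
      _ = c * (x ^ 8 * r) * c⁻¹ := by rw [h2.eq]
      _ = (c * x ^ 8 * c⁻¹) * (c * r * c⁻¹) := by group
      _ = x * (c * r * c⁻¹) := by rw [← h1]
  have hRC : R ≤ centralizer ({x} : Set G) := fun r hr => mem_centralizer_singleton_iff.2 (hRx r hr)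
  have hcRC : R.map (MulAut.conj c).toMonoidHom ≤ centralizer ({x} : Set G) := by
    rintro _ ⟨r, hr, rfl⟩
    exact mem_centralizer_singleton_iff.2 (hcR r hr)
  have hcardC : ∀ A : Subgroup G, A ≤ centralizer ({x} : Set G) → Nat.card ↥A = 13 ^ 3 →
      IsPGroup 13 ↥(A.subgroupOf (centralizer ({x} : Set G))) ∧
        ¬ 13 ∣ (A.subgroupOf (centralizer ({x} : Set G))).index := by
    intro A hA hAc
    have h5 : Nat.card ↥(A.subgroupOf (centralizer ({x} : Set G))) = 13 ^ 3 := by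
      rw [← hAc]
      exact Nat.card_congr (Subgroup.subgroupOfEquivOfLe hA).toEquiv
    refine ⟨IsPGroup.of_card h5, fun hd => h.hyp.h4 ?_⟩
    have h6 := (A.subgroupOf (centralizer ({x} : Set G))).card_mul_index
    rw [h5] at h6
    have h7 : 13 ^ 4 ∣ Nat.card ↥(centralizer ({x} : Set G)) := by
      rw [← h6, pow_succ 13 3]
      exact Nat.mul_dvd_mul_left _ hd
    exact h7.trans (Subgroup.card_subgroup_dvd_card _)
  obtain ⟨a1, a2⟩ := hcardC R hRC hRc
  obtain ⟨b1, b2⟩ := hcardC _ hcRC (by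
    rw [Subgroup.card_map_of_injective (MulAut.conj c).injective]; exact hRc)
  obtain ⟨f, hf⟩ := MulAction.exists_smul_eq ↥(centralizer ({x} : Set G)) (b1.toSylow b2) (a1.toSylow a2)
  have hfR : ∀ r ∈ R, ((f : G) * c) * r * ((f : G) * c)⁻¹ ∈ R := by
    intro r hr
    have h5 : (⟨c * r * c⁻¹, mem_centralizer_singleton_iff.2 (hcR r hr)⟩ : ↥(centralizer ({x} : Set G))) ∈
        (R.map (MulAut.conj c).toMonoidHom).subgroupOf (centralizer ({x} : Set G)) := ⟨r, hr, rfl⟩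
    have h6 : MulAut.conj f ⟨c * r * c⁻¹, mem_centralizer_singleton_iff.2 (hcR r hr)⟩ ∈
        (f • (b1.toSylow b2) : Sylow 13 ↥(centralizer ({x} : Set G))) :=
      Subgroup.smul_mem_pointwise_smul _ (MulAut.conj f) _ h5
    rw [hf] at h6
    have h7 : (f : G) * (c * r * c⁻¹) * (f : G)⁻¹ ∈ R := h6
    have e : ((f : G) * c) * r * ((f : G) * c)⁻¹ = (f : G) * (c * r * c⁻¹) * (f : G)⁻¹ := by group
    rw [e]; exact h7
  obtain ⟨d, hd⟩ : ∃ d : G, d = (f : G) * c := ⟨_, rfl⟩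
  rw [← hd] at hfR
  have hdx : d * x * d⁻¹ = x ^ 5 := by
    have h5 : (f : G) * x = x * f := mem_centralizer_singleton_iff.1 f.2
    calc d * x * d⁻¹ = (f : G) * (c * x * c⁻¹) * (f : G)⁻¹ := by rw [hd]; group
      _ = (f : G) * x ^ 5 * (f : G)⁻¹ := by rw [hc]
      _ = x ^ 5 := by
        rw [mul_inv_eq_iff_eq_mul]
        exact ((show Commute (f : G) x from h5).pow_right 5).eq
  -- the group `M`
  let M : Subgroup G := normalizer (R : Set G) ⊓ normalizer ((zpowers x : Subgroup G) : Set G)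
  have hdM : d ∈ M := by
    refine mem_inf.2 ⟨mem_normalizer_of hfR, mem_normalizer_of ?_⟩
    intro c hc
    obtain ⟨k, rfl⟩ := mem_zpowers_iff.1 hc
    rw [← conj_zpow, hdx]
    exact zpow_mem (pow_mem (mem_zpowers x) 5) k
  have hQM : Q ≤ M := by
    intro q hq
    refine mem_inf.2 ⟨mem_normalizer_of (hQR q hq), mem_normalizer_of ?_⟩
    intro c hc
    obtain ⟨k, rfl⟩ := mem_zpowers_iff.1 hc
    have h5 : q * x ^ k * q⁻¹ = x ^ k := by
      rw [mul_inv_eq_iff_eq_mul]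
      exact ((show Commute q x from h.hyp.qx q hq).zpow_right k).eq
    rw [h5]
    exact zpow_mem (mem_zpowers x) k
  let M0 : Subgroup ↥M := (centralizer ({x} : Set G)).subgroupOf M
  have hM0 : M0.Normal := by
    constructor
    intro m hm g
    have h5 : (m : G) * x = x * m := mem_centralizer_singleton_iff.1 hm
    show (g : G) * m * (g : G)⁻¹ ∈ centralizer ({x} : Set G)
    rw [mem_centralizer_singleton_iff]
    have h6 : (g : G)⁻¹ * x * ((g : G)⁻¹)⁻¹ ∈ zpowers x :=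
      (mem_normalizer_iff.1 ((mem_inf.1 (M.inv_mem g.2)).2) x).1 (mem_zpowers x)
    rw [inv_inv] at h6
    obtain ⟨k, hk⟩ := mem_zpowers_iff.1 h6
    have h7 : (m : G) * ((g : G)⁻¹ * x * g) = ((g : G)⁻¹ * x * g) * m := by
      rw [← hk]
      exact ((show Commute (m : G) x from h5).zpow_right k).eq
    calc (g : G) * m * (g : G)⁻¹ * x = g * (m * ((g : G)⁻¹ * x * g)) * (g : G)⁻¹ := by group
      _ = g * (((g : G)⁻¹ * x * g) * m) * (g : G)⁻¹ := by rw [h7]
      _ = _ := by group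
  have h8 : 8 ∣ Nat.card ↥M0 := by
    refine (eight_dvd h.hyp.q2 h.hyp.nc).trans ?_
    have h5 : Q.subgroupOf M ≤ M0 := by
      intro q hq
      exact mem_centralizer_singleton_iff.2 (h.hyp.qx _ hq)
    have h6 := Subgroup.card_dvd_of_le h5
    have h7 : Nat.card ↥(Q.subgroupOf M) = Nat.card ↥Q :=
      Nat.card_congr (Subgroup.subgroupOfEquivOfLe hQM).toEquiv
    rwa [h7] at h6
  have h4 : 4 ∣ Nat.card (↥M ⧸ M0) := by
    have h5 : 4 ∣ orderOf (QuotientGroup.mk' M0 ⟨d, hdM⟩) := by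
      have h6 : ∀ n : ℕ, (QuotientGroup.mk' M0 ⟨d, hdM⟩) ^ n = 1 → 13 ∣ 5 ^ n - 1 := by
        intro n hn
        rw [← map_pow] at hn
        have h7 : (⟨d, hdM⟩ : ↥M) ^ n ∈ M0 := (QuotientGroup.eq_one_iff _).1 hn
        have h8 : d ^ n ∈ centralizer ({x} : Set G) := h7
        rw [mem_centralizer_singleton_iff] at h8
        have h9 : d ^ n * x * (d ^ n)⁻¹ = x := mul_inv_eq_iff_eq_mul.2 h8
        rw [pow5 hdx n] at h9
        have h10 : x ^ (5 ^ n - 1) = 1 := by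
          have h11 : x ^ (5 ^ n - 1) * x = 1 * x := by
            rw [← pow_succ, Nat.sub_add_cancel (Nat.one_le_pow _ _ (by norm_num)), h9, one_mul]
          exact mul_right_cancel h11
        have h12 := orderOf_dvd_of_pow_eq_one h10
        rwa [h.hyp.hx] at h12
      have h7 := h6 _ (pow_orderOf_eq_one _)
      obtain ⟨n, hn⟩ : ∃ n, n = orderOf (QuotientGroup.mk' M0 ⟨d, hdM⟩) := ⟨_, rfl⟩
      rw [← hn] at h7 ⊢
      -- `5 ^ n ≡ 1` modulo 13
      have h8 : 5 ^ n % 13 = 1 := by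
        have h9 : 1 ≤ 5 ^ n := Nat.one_le_pow _ _ (by norm_num)
        omega
      have h9 : 5 ^ n % 13 = 5 ^ (n % 4) % 13 := by
        conv_lhs => rw [← Nat.div_add_mod n 4, pow_add, pow_mul, Nat.mul_mod, Nat.pow_mod]
        norm_num
      rw [h9] at h8
      have h10 : n % 4 < 4 := Nat.mod_lt _ (by norm_num)
      interval_cases hm : n % 4
      · exact Nat.dvd_of_mod_eq_zero hm
      all_goals norm_num at h8
    exact h5.trans (_root_.orderOf_dvd_natCard _)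
  have h32 : 2 ^ 5 ∣ Nat.card ↥M := by
    rw [Subgroup.card_eq_card_quotient_mul_card_subgroup M0]
    exact (by norm_num : 2 ^ 5 = 4 * 8) ▸ Nat.mul_dvd_mul h4 h8
  obtain ⟨W, hW⟩ := Sylow.exists_subgroup_card_pow_prime (G := ↥M) 2 h32
  refine ⟨R, W.map M.subtype, hRc, hxR, hRx, hQR, hno, ?_, ?_, ?_⟩
  · rintro _ ⟨w, -, rfl⟩ r hr
    exact (mem_normalizer_iff.1 (mem_inf.1 w.2).1 r).1 hr
  · rintro _ ⟨w, -, rfl⟩ r hr
    exact (mem_normalizer_iff.1 (mem_inf.1 w.2).2 r).1 hr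
  · rw [Subgroup.card_map_of_injective M.subtype_injective, hW]
    norm_num

/-- an involution `u` and an abelian quotient: `u` inverts `R / C_R(u)` if `C_R(u) ≤ ⟨x⟩` -/
theorem inverts {u : G} {R : Subgroup G} (hu : u * u = 1) (hux : u * x = x * u) (hxo : orderOf x = 13)
    (hn : ∀ r ∈ R, u * r * u⁻¹ ∈ R) (hcomm : ∀ r ∈ R, ∀ s ∈ R, r * s * r⁻¹ * s⁻¹ ∈ zpowers x)
    (hfree : ∀ r ∈ R, r * u = u * r → r ∈ zpowers x) {q : G} (hq : q ∈ R) :
    ∃ j : ℤ, u * q * u⁻¹ = q⁻¹ * x ^ j := by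
  have hzq := hn q hq
  obtain ⟨q', hq'⟩ : ∃ q', q' = u * q * u⁻¹ := ⟨_, rfl⟩
  rw [← hq'] at hzq ⊢
  have h1 : u * q' * u⁻¹ = q := by
    rw [hq']
    calc u * (u * q * u⁻¹) * u⁻¹ = (u * u) * q * (u * u)⁻¹ := by group
      _ = q := by rw [hu]; group
  -- `u = q q'`
  obtain ⟨i, hi⟩ := mem_zpowers_iff.1 (hcomm q' hzq q hq)
  have hi' : q' * q = x ^ i * (q * q') := by rw [hi]; group
  have h2 : u * (q * q') * u⁻¹ = x ^ i * (q * q') := by
    calc u * (q * q') * u⁻¹ = (u * q * u⁻¹) * (u * q' * u⁻¹) := by group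
      _ = q' * q := by rw [h1, hq']
      _ = _ := hi'
  have hzwi : u * x ^ i * u⁻¹ = x ^ i := by
    rw [((show Commute u x from hux).zpow_right i).eq, mul_inv_cancel_right]
  have h3 : x ^ (2 * i) = 1 := by
    have h4 : q * q' = x ^ i * (x ^ i * (q * q')) := by
      calc q * q' = (u * u) * (q * q') * (u * u)⁻¹ := by rw [hu]; group
        _ = u * (u * (q * q') * u⁻¹) * u⁻¹ := by group
        _ = u * (x ^ i * (q * q')) * u⁻¹ := by rw [h2]
        _ = (u * x ^ i * u⁻¹) * (u * (q * q') * u⁻¹) := by group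
        _ = x ^ i * (x ^ i * (q * q')) := by rw [hzwi, h2]
    have h5 : (x ^ i * x ^ i) * (q * q') = 1 * (q * q') := by rw [one_mul, mul_assoc, ← h4]
    have h6 := mul_right_cancel h5
    rw [two_mul, zpow_add, h6]
  have h4 : x ^ i = 1 := by
    rw [← orderOf_dvd_iff_zpow_eq_one, hxo] at h3 ⊢
    push_cast at h3 ⊢
    omega
  rw [h4, one_mul] at h2
  have h5 : (q * q') * u = u * (q * q') := (mul_inv_eq_iff_eq_mul.1 h2).symm
  obtain ⟨j, hj⟩ := mem_zpowers_iff.1 (hfree _ (R.mul_mem hq hzq) h5)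
  exact ⟨j, by rw [hj]; group⟩

/-- the elements of `R` commuting with `z` -/
theorem RW.free {R W : Subgroup G} (hr : RW x Q R W) (h : D x z t Q) {r : G} (hrR : r ∈ R) (hrz : r * z = z * r) :
    r ∈ zpowers x := by
  have hp : Fact (Nat.Prime 13) := ⟨by norm_num⟩
  by_contra hn
  apply h.hyp.cz
  -- the subgroup `R ∩ C(z)`
  have hle : zpowers x ≤ R ⊓ centralizer ({z} : Set G) := by
    rw [zpowers_le]
    exact mem_inf.2 ⟨hr.mem, mem_centralizer_singleton_iff.2 h.hyp.zx.symm⟩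
  have hd : Nat.card ↥(R ⊓ centralizer ({z} : Set G)) ∣ 13 ^ 3 := by
    rw [← hr.card]; exact card_dvd_of_le inf_le_left
  obtain ⟨k, hk3, hk⟩ := (Nat.dvd_prime_pow hp.out).1 hd
  have hcx : Nat.card ↥(zpowers x) = 13 := by rw [Nat.card_zpowers, h.hyp.hx]
  have h1 : 13 < 13 ^ k := by
    rw [← hk]
    have h2 := Subgroup.card_le_of_le hle
    rw [hcx] at h2
    refine lt_of_le_of_ne h2 fun e => hn ?_
    have h3 := Subgroup.eq_of_le_of_card_ge hle (by rw [hcx]; exact e.ge)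
    rw [h3]
    exact mem_inf.2 ⟨hrR, mem_centralizer_singleton_iff.2 hrz⟩
  have hk2 : 2 ≤ k := by
    by_contra hlt2
    have h2 : 13 ^ k ≤ 13 ^ 1 := Nat.pow_le_pow_right (by norm_num) (by omega)
    omega
  exact ((pow_dvd_pow 13 hk2).trans (by rw [hk])).trans (card_dvd_of_le (inf_le_right :
    R ⊓ centralizer ({z} : Set G) ≤ centralizer ({z} : Set G)))

end Cfsg.Agent.H609.Inv.Thirteen
end

-- part: H609/Inv/MThirB
section
/-!
# S3830: the Monster, `p = 13`: nonabelian Sylow subgroups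

If the Sylow 13-subgroup `R` is not abelian, all elements of order 13 are, up to conjugation, transvections on
`⟨x, x₁⟩`, `x₁ ∈ R` conjugate to a power of `x`.
-/

set_option autoImplicit false
set_option maxRecDepth 100000
set_option linter.unusedSectionVars false

namespace Cfsg.Agent.H609.Inv.Thirteen

open Subgroup Cfsg Cfsg.Agent.H459.Inv
open Cfsg.Agent.H131.T5Cube (Cu card_diff)
open Cfsg.Agent.H131.T5M13 (D TB zp exists_syl exists_conj_le orderOf_conj' exists_nat_pow)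

theorem dvd_card_of_stab {W X : Type*} [Group W] [Finite W] [MulAction W X] [Finite X] {n k : ℕ}
    (hW : Nat.card W = n * k) (h : ∀ b : X, Nat.card (MulAction.stabilizer W b) ∣ k) : n ∣ Nat.card X := by
  classical
  have e := MulAction.selfEquivSigmaOrbitsQuotientStabilizer W X
  have : Fintype (Quotient (MulAction.orbitRel W X)) := Fintype.ofFinite _
  rw [Nat.card_congr e, Nat.card_sigma]
  refine Finset.dvd_sum fun i _ => ?_
  have h1 := Subgroup.card_mul_index (MulAction.stabilizer W (Quotient.out i))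
  rw [hW] at h1
  obtain ⟨c, hc⟩ := h (Quotient.out i)
  have h2 : 0 < Nat.card (MulAction.stabilizer W (Quotient.out i)) := Nat.card_pos
  refine ⟨c, ?_⟩
  apply Nat.eq_of_mul_eq_mul_left h2
  show Nat.card (MulAction.stabilizer W (Quotient.out i)) * (MulAction.stabilizer W (Quotient.out i)).index = _
  rw [h1]
  conv_lhs => rw [hc]
  ring

universe u

variable {G : Type u} [Group G] [Finite G] {x z t : G} {Q R W : Subgroup G}

theorem exists_invol (hW : Nat.card ↥W = 32) {w : G} (hw : w ∈ W) (hw1 : w ≠ 1) : ∃ n : ℕ, orderOf (w ^ n) = 2 := by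
  have h3 : orderOf w ∣ 2 ^ 5 := by
    have h4 := _root_.orderOf_dvd_natCard (⟨w, hw⟩ : ↥W)
    rw [Subgroup.orderOf_mk, hW] at h4
    exact h4
  obtain ⟨k, -, hk⟩ := (Nat.dvd_prime_pow Nat.prime_two).1 h3
  have hk0 : k ≠ 0 := by
    rintro rfl
    rw [pow_zero, orderOf_eq_one_iff] at hk
    exact hw1 hk
  obtain ⟨m, rfl⟩ := Nat.exists_eq_succ_of_ne_zero hk0
  refine ⟨2 ^ m, ?_⟩
  rw [orderOf_pow, hk, Nat.gcd_eq_right (pow_dvd_pow 2 (Nat.le_succ m)), Nat.succ_eq_add_one, pow_succ]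
  exact Nat.mul_div_cancel_left _ (pow_pos (by norm_num) m)

theorem RW.tb_of_comm (h : D x z t Q) (hr : RW x Q R W) {w y : G} (hw : w ∈ W) (hw1 : w ≠ 1) (hwy : w * y = y * w) :
    TB z y := by
  obtain ⟨n, hn⟩ := exists_invol hr.cardW hw hw1
  have hc : Commute (w ^ n) y := (show Commute w y from hwy).pow_left n
  rcases h.cls _ hn with hz | ht
  · obtain ⟨g, hg⟩ := isConj_iff.1 hz
    exact ⟨g, by rw [hg]; exact hc.eq.symm⟩
  · exact (h.not_norm ht (hr.wx _ (pow_mem hw n))).elim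

theorem RW.exists_x1 (h : D x z t Q) (hr : RW x Q R W) : ∃ x1 ∈ R, x1 ∉ zpowers x ∧ TB z x1 := by
  by_contra hcon
  push Not at hcon
  let _ : MulAction ↥W {y : G // y ∈ R ∧ y ∉ zpowers x} :=
    { smul := fun w y => ⟨w * y * (w : G)⁻¹, hr.wr w w.2 _ y.2.1, fun hc => y.2.2 (by
        have h1 := hr.wx (w : G)⁻¹ (W.inv_mem w.2) _ hc
        have e : (w : G)⁻¹ * ((w : G) * y * (w : G)⁻¹) * ((w : G)⁻¹)⁻¹ = y := by group
        rwa [e] at h1)⟩
      one_smul := fun y => Subtype.ext (by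
        show (1 : G) * y * (1 : G)⁻¹ = y
        group)
      mul_smul := fun a b y => Subtype.ext (by
        show ((a : G) * b) * y * ((a : G) * b)⁻¹ = a * (b * y * (b : G)⁻¹) * (a : G)⁻¹
        group) }
  have h1 : 32 ∣ Nat.card {y : G // y ∈ R ∧ y ∉ zpowers x} := by
    refine dvd_card_of_stab (W := ↥W) (k := 1) (by rw [hr.cardW]) (fun b => ?_)
    rw [Nat.dvd_one, Subgroup.card_eq_one, eq_bot_iff]
    intro w hw
    rw [mem_bot]
    by_contra hw1
    have h2 : w • b = b := hw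
    have h3 : (w : G) * b * (w : G)⁻¹ = b := congrArg Subtype.val h2
    exact hcon b b.2.1 b.2.2 (hr.tb_of_comm h w.2 (fun h4 => hw1 (Subtype.ext h4)) (mul_inv_eq_iff_eq_mul.1 h3))
  rw [card_diff (zpowers_le.2 hr.mem), hr.card, Nat.card_zpowers, h.hyp.hx] at h1
  norm_num at h1

theorem RW.ord_of_tb (h : D x z t Q) (hr : RW x Q R W) {y : G} (hy : y ∈ R) (hy1 : y ≠ 1) (hb : TB z y) :
    orderOf y = 13 := by
  have hd : orderOf y ∣ 13 ^ 3 := by
    have h1 := _root_.orderOf_dvd_natCard (⟨y, hy⟩ : ↥R)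
    rwa [Subgroup.orderOf_mk, hr.card] at h1
  obtain ⟨k, -, hk⟩ := (Nat.dvd_prime_pow (by norm_num)).1 hd
  have hk2 : k < 2 := by
    by_contra hlt
    apply h.hyp.cz
    obtain ⟨g, hg⟩ := hb
    have hy' : g⁻¹ * y * g ∈ centralizer ({z} : Set G) := by
      rw [mem_centralizer_singleton_iff]
      calc g⁻¹ * y * g * z = g⁻¹ * (y * (g * z * g⁻¹)) * g := by group
        _ = g⁻¹ * ((g * z * g⁻¹) * y) * g := by rw [hg]
        _ = _ := by group
    have h1 := _root_.orderOf_dvd_natCard (⟨_, hy'⟩ : ↥(centralizer ({z} : Set G)))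
    rw [Subgroup.orderOf_mk] at h1
    have h2 := orderOf_conj' g⁻¹ y
    rw [inv_inv] at h2
    rw [h2, hk] at h1
    exact (pow_dvd_pow 13 (by omega)).trans h1
  have hk0 : k ≠ 0 := by
    rintro rfl
    rw [pow_zero, orderOf_eq_one_iff] at hk
    exact hy1 hk
  have hk1 : k = 1 := by omega
  rw [hk, hk1, pow_one]

/-- elements of order 13 of `C(x)` -/
theorem RW.conj_in (h : D x z t Q) (hr : RW x Q R W) {y : G} (hyx : y * x = x * y) (hy : orderOf y = 13) :
    ∃ c : G, c * x = x * c ∧ c * y * c⁻¹ ∈ R := by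
  have hp : Fact (Nat.Prime 13) := ⟨by norm_num⟩
  have hRC : R ≤ centralizer ({x} : Set G) := fun r hrR => mem_centralizer_singleton_iff.2 (hr.cen r hrR)
  have h5 : Nat.card ↥(R.subgroupOf (centralizer ({x} : Set G))) = 13 ^ 3 := by
    rw [← hr.card]
    exact Nat.card_congr (Subgroup.subgroupOfEquivOfLe hRC).toEquiv
  have h6 : ¬ 13 ∣ (R.subgroupOf (centralizer ({x} : Set G))).index := by
    intro hd
    apply h.hyp.h4
    have h6 := (R.subgroupOf (centralizer ({x} : Set G))).card_mul_index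
    rw [h5] at h6
    have h7 : 13 ^ 4 ∣ Nat.card ↥(centralizer ({x} : Set G)) := by
      rw [← h6, pow_succ 13 3]
      exact Nat.mul_dvd_mul_left _ hd
    exact h7.trans (Subgroup.card_subgroup_dvd_card _)
  let S : Sylow 13 ↥(centralizer ({x} : Set G)) := (IsPGroup.of_card h5).toSylow h6
  have hyC : y ∈ centralizer ({x} : Set G) := mem_centralizer_singleton_iff.2 hyx
  have h7 : IsPGroup 13 ↥(zpowers (⟨y, hyC⟩ : ↥(centralizer ({x} : Set G)))) := zp (by rw [Subgroup.orderOf_mk, hy])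
  obtain ⟨T, hT⟩ := h7.exists_le_sylow
  obtain ⟨c, hc⟩ := MulAction.exists_smul_eq ↥(centralizer ({x} : Set G)) T S
  refine ⟨c, mem_centralizer_singleton_iff.1 c.2, ?_⟩
  have h8 : MulAut.conj c ⟨y, hyC⟩ ∈ (c • T : Sylow 13 ↥(centralizer ({x} : Set G))) :=
    Subgroup.smul_mem_pointwise_smul _ (MulAut.conj c) (T : Subgroup ↥(centralizer ({x} : Set G))) (hT (mem_zpowers _))
  rw [hc] at h8
  exact h8

theorem RW.zmem (h : D x z t Q) (hr : RW x Q R W) : ∀ r ∈ R, z * r * z⁻¹ ∈ R := hr.qr z h.hyp.zQ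

theorem zz (h : D x z t Q) : z * z = 1 := by rw [← pow_two, ← h.hyp.hz, pow_orderOf_eq_one]

theorem Cu.comm' (hcu : Cu 13 R x) : ∀ r ∈ R, ∀ s ∈ R, r * s * r⁻¹ * s⁻¹ ∈ zpowers x := by
  have hp : Fact (Nat.Prime 13) := ⟨by norm_num⟩
  intro r hr s hs
  have h1 := hcu.comm_mem hr (R.inv_mem hs)
  have h2 := inv_mem h1
  have e : (s⁻¹⁻¹ * (r * s⁻¹ * r⁻¹))⁻¹ = r * s * r⁻¹ * s⁻¹ := by group
  rwa [e] at h2

/-- `z` inverts `R / ⟨x⟩` -/
theorem RW.inv_z (h : D x z t Q) (hr : RW x Q R W) (hcu : Cu 13 R x) {r : G} (hrR : r ∈ R) :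
    ∃ j : ℤ, z * r * z⁻¹ = r⁻¹ * x ^ j :=
  inverts (zz h) h.hyp.zx h.hyp.hx (hr.zmem h) (Cu.comm' hcu) (fun _ hs hsz => hr.free h hs hsz) hrR

/-- reflections -/
theorem RW.refl (h : D x z t Q) (hr : RW x Q R W) (hcu : Cu 13 R x) {y : G} (hyx : y * x = x * y)
    (hy : orderOf y = 13) (hyn : y ∉ zpowers x) :
    ∃ (v : G) (j : ℤ), orderOf v = 2 ∧ ¬ (13 : ℤ) ∣ j ∧ v * y * v⁻¹ = y⁻¹ * x ^ j := by
  have hp : Fact (Nat.Prime 13) := ⟨by norm_num⟩
  obtain ⟨c, hcx, hcR⟩ := hr.conj_in h hyx hy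
  obtain ⟨r, hrr⟩ : ∃ r, r = c * y * c⁻¹ := ⟨_, rfl⟩
  rw [← hrr] at hcR
  have hcx' : Commute c x := hcx
  have hrn : r ∉ zpowers x := by
    intro h1
    apply hyn
    obtain ⟨i, hi⟩ := mem_zpowers_iff.1 h1
    refine mem_zpowers_iff.2 ⟨i, ?_⟩
    have h2 : y = c⁻¹ * r * c := by rw [hrr]; group
    rw [h2, ← hi]
    rw [mul_assoc, ← (hcx'.zpow_right i).eq]
    group
  -- an involution with `v r v⁻¹ = r⁻¹ x ^ j`
  have key : ∃ (v : G) (j : ℤ), orderOf v = 2 ∧ ¬ (13 : ℤ) ∣ j ∧ v * r * v⁻¹ = r⁻¹ * x ^ j := by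
    obtain ⟨j, hj⟩ := hr.inv_z h hcu hcR
    by_cases hj13 : (13 : ℤ) ∣ j
    · obtain ⟨s, hsR, hs⟩ := hcu.exists_conj hcR hrn (mem_zpowers x)
      have hsx : Commute s x := hr.cen s hsR
      have hzx : Commute z x := h.hyp.zx
      have hxj : x ^ j = 1 := by
        rw [← orderOf_dvd_iff_zpow_eq_one, h.hyp.hx]
        exact_mod_cast hj13
      rw [hxj, mul_one] at hj
      refine ⟨s * z * s⁻¹, -2, by rw [orderOf_conj', h.hyp.hz], by norm_num, ?_⟩
      have hrx : Commute r x := hr.cen r hcR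
      have e2 : s⁻¹ * r * s = r * x⁻¹ := by
        have e3 : s⁻¹ * x * s = x := by rw [hsx.inv_left.eq]; group
        calc s⁻¹ * r * s = s⁻¹ * (r * x) * s * (s⁻¹ * x * s)⁻¹ := by group
          _ = s⁻¹ * (s * r * s⁻¹) * s * (s⁻¹ * x * s)⁻¹ := by rw [hs]
          _ = r * (s⁻¹ * x * s)⁻¹ := by group
          _ = r * x⁻¹ := by rw [e3]
      have e4 : z * x * z⁻¹ = x := by rw [hzx.eq]; group
      have e5 : s * x * s⁻¹ = x := by rw [hsx.eq]; group
      calc s * z * s⁻¹ * r * (s * z * s⁻¹)⁻¹ = s * (z * (s⁻¹ * r * s) * z⁻¹) * s⁻¹ := by group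
        _ = s * ((z * r * z⁻¹) * (z * x * z⁻¹)⁻¹) * s⁻¹ := by rw [e2]; group
        _ = s * (r⁻¹ * x⁻¹) * s⁻¹ := by rw [hj, e4]
        _ = (s * r * s⁻¹)⁻¹ * (s * x * s⁻¹)⁻¹ := by group
        _ = x⁻¹ * r⁻¹ * x⁻¹ := by rw [hs, e5, mul_inv_rev]
        _ = r⁻¹ * x⁻¹ * x⁻¹ := by rw [(hrx.inv_inv).eq]
        _ = r⁻¹ * x ^ (-2 : ℤ) := by rw [mul_assoc]; congr 1; group
    · exact ⟨z, j, h.hyp.hz, hj13, hj⟩
  obtain ⟨v, j, hv, hj, hvr⟩ := key
  refine ⟨c⁻¹ * v * c, j, ?_, hj, ?_⟩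
  · have := orderOf_conj' c⁻¹ v
    rw [inv_inv] at this
    rw [this, hv]
  · have e1 : c⁻¹ * x ^ j * c = x ^ j := by rw [((hcx'.inv_left).zpow_right j).eq]; group
    calc c⁻¹ * v * c * y * (c⁻¹ * v * c)⁻¹ = c⁻¹ * (v * (c * y * c⁻¹) * v⁻¹) * c := by group
      _ = c⁻¹ * (r⁻¹ * x ^ j) * c := by rw [← hrr, hvr]
      _ = (c⁻¹ * r * c)⁻¹ * (c⁻¹ * x ^ j * c) := by group
      _ = y⁻¹ * x ^ j := by rw [e1, hrr]; group

/-- the data in the nonabelian case -/
structure TX (x x1 : G) (R : Subgroup G) : Prop where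
  r1 : x1 ∈ R
  o1 : orderOf x1 = 13
  n1 : x1 ∉ zpowers x
  cj : ∃ k : ℤ, IsConj (x1 ^ k) x
  tt : ∃ (t' : G) (j : ℤ), orderOf t' = 2 ∧ ¬ (13 : ℤ) ∣ j ∧ t' * x * t'⁻¹ = x⁻¹ * x1 ^ j

theorem exists_inv13 {a : ℤ} (ha : ¬ (13 : ℤ) ∣ a) : ∃ b : ℤ, (13 : ℤ) ∣ a * b - 1 := by
  have h2 : IsCoprime a 13 := by
    rw [Int.isCoprime_iff_gcd_eq_one, Int.gcd_comm]
    exact ((Nat.Prime.coprime_iff_not_dvd (by norm_num)).2 (fun h => ha (Int.natCast_dvd.2 h)))
  obtain ⟨u, v, huv⟩ := h2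
  exact ⟨u, ⟨-v, by linarith⟩⟩

theorem zpow_eq_of_dvd {y : G} (hy : orderOf y = 13) {a b : ℤ} (h : (13 : ℤ) ∣ a - b) : y ^ a = y ^ b := by
  have h1 : y ^ (a - b) = 1 := by
    rw [← orderOf_dvd_iff_zpow_eq_one, hy]
    exact_mod_cast h
  rw [zpow_sub, mul_inv_eq_one] at h1
  exact h1

theorem RW.exists_tx (h : D x z t Q) (hr : RW x Q R W) (hcu : Cu 13 R x) : ∃ x1 : G, TX x x1 R := by
  have hp : Fact (Nat.Prime 13) := ⟨by norm_num⟩
  obtain ⟨x1, hx1R, hx1n, hb⟩ := hr.exists_x1 h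
  have hx11 : x1 ≠ 1 := by rintro rfl; exact hx1n (one_mem _)
  have ho1 := hr.ord_of_tb h hx1R hx11 hb
  obtain ⟨k, hk⟩ := h.tb_pow ho1 hb
  obtain ⟨g, hg⟩ := isConj_iff.1 hk
  have hk13 : ¬ (13 : ℤ) ∣ k := by
    intro hd
    have h1 : x ^ k = 1 := by
      rw [← orderOf_dvd_iff_pow_eq_one, h.hyp.hx]
      exact_mod_cast hd
    rw [h1] at hg
    apply hx11
    calc x1 = g⁻¹ * (g * x1 * g⁻¹) * g := by group
      _ = 1 := by rw [hg]; group
  obtain ⟨k', hk'⟩ := exists_inv13 hk13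
  -- `x = g x₁ ^ k' g⁻¹`
  have hxg : x = g * x1 ^ k' * g⁻¹ := by
    rw [← conj_zpow, hg, ← zpow_natCast, ← zpow_mul]
    have := zpow_eq_of_dvd h.hyp.hx (a := k * k') (b := 1) hk'
    rw [this, zpow_one]
  -- `y = g x g⁻¹`
  have hx1x : Commute x1 x := hr.cen x1 hx1R
  have hyx : (g * x * g⁻¹) * x = x * (g * x * g⁻¹) := by
    have h1 : Commute x (x1 ^ k') := (hx1x.symm).zpow_right k'
    calc (g * x * g⁻¹) * x = (g * x * g⁻¹) * (g * x1 ^ k' * g⁻¹) := by rw [← hxg]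
      _ = g * (x * x1 ^ k') * g⁻¹ := by group
      _ = g * (x1 ^ k' * x) * g⁻¹ := by rw [h1.eq]
      _ = (g * x1 ^ k' * g⁻¹) * (g * x * g⁻¹) := by group
      _ = x * (g * x * g⁻¹) := by rw [← hxg]
  have hyn : g * x * g⁻¹ ∉ zpowers x := by
    intro h1
    obtain ⟨i, hi⟩ := mem_zpowers_iff.1 h1
    -- `x = x₁ ^ (k' i)`
    have h2 : x = x1 ^ (k' * i) := by
      have h3 : g * x * g⁻¹ = g * x1 ^ (k' * i) * g⁻¹ := by
        calc g * x * g⁻¹ = x ^ i := hi.symm
          _ = (g * x1 ^ k' * g⁻¹) ^ i := by rw [← hxg]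
          _ = g * x1 ^ (k' * i) * g⁻¹ := by rw [conj_zpow, zpow_mul]
      exact mul_left_cancel (mul_right_cancel h3)
    apply hx1n
    have h4 : ¬ (13 : ℤ) ∣ k' * i := by
      intro hd
      have h5 : x1 ^ (k' * i) = 1 := by
        rw [← orderOf_dvd_iff_zpow_eq_one, ho1]
        exact_mod_cast hd
      rw [h5] at h2
      have h6 := h.hyp.hx
      rw [h2, orderOf_one] at h6
      exact absurd h6 (by norm_num)
    obtain ⟨e, he⟩ := exists_inv13 h4
    refine mem_zpowers_iff.2 ⟨e, ?_⟩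
    rw [h2, ← zpow_mul, zpow_eq_of_dvd ho1 he, zpow_one]
  obtain ⟨v, j, hv, hj, hvy⟩ := hr.refl h hcu hyx (by rw [orderOf_conj', h.hyp.hx]) hyn
  refine ⟨x1, hx1R, ho1, hx1n, ⟨k', isConj_iff.2 ⟨g, hxg.symm⟩⟩, g⁻¹ * v * g, k' * j, ?_, ?_, ?_⟩
  · have := orderOf_conj' g⁻¹ v
    rw [inv_inv] at this
    rw [this, hv]
  · intro hd
    rcases (Nat.prime_iff_prime_int.1 (by norm_num : Nat.Prime 13)).dvd_or_dvd hd with h1 | h1
    · have h1' : (13 : ℤ) ∣ k' := by exact_mod_cast h1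
      have : (13 : ℤ) ∣ k * k' := Dvd.dvd.mul_left h1' _
      omega
    · exact hj (by exact_mod_cast h1)
  · calc g⁻¹ * v * g * x * (g⁻¹ * v * g)⁻¹ = g⁻¹ * (v * (g * x * g⁻¹) * v⁻¹) * g := by group
      _ = g⁻¹ * ((g * x * g⁻¹)⁻¹ * x ^ j) * g := by rw [hvy]
      _ = x⁻¹ * (g⁻¹ * x ^ j * g) := by group
      _ = x⁻¹ * x1 ^ (k' * j) := by
        congr 1
        conv_lhs => rw [hxg, conj_zpow]
        rw [← zpow_mul]
        group

/-- elements of `R` not commuting with `x₁` -/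
theorem TX.ns_of_ne {x1 : G} (ht : TX x x1 R) (hcu : Cu 13 R x) {X : G} (hX : X ∈ R) (hne : X * x1 ≠ x1 * X) :
    NS (MulAut.conj X) := by
  have hp : Fact (Nat.Prime 13) := ⟨by norm_num⟩
  obtain ⟨t', j, ht2, hj, htx⟩ := ht.tt
  obtain ⟨m, hm⟩ := mem_zpowers_iff.1 (hcu.comm_mem hX ht.r1)
  have hX1 : X * x1 * X⁻¹ = x1 * x ^ m := by rw [hm]; group
  refine ns_of_refl (p := 13) (w := x) (w1 := x1) (m := m) (j := j) (t := t') (by norm_num) hcu.ord ht.o1
    (hcu.cen x1 ht.r1).symm ht.n1 ?_ (by exact_mod_cast hj) (hcu.cen X hX) hX1 ht2 htx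
  intro hd
  apply hne
  have h1 : x ^ m = 1 := by
    rw [← orderOf_dvd_iff_zpow_eq_one, hcu.ord]
    exact_mod_cast hd
  rw [h1, mul_one] at hX1
  exact mul_inv_eq_iff_eq_mul.1 hX1

/-- elements of `R ∖ ⟨x⟩` -/
theorem TX.ns_of_not_mem {x1 : G} (ht : TX x x1 R) (h : D x z t Q) (hr : RW x Q R W) (hcu : Cu 13 R x) {r : G}
    (hrR : r ∈ R) (hrn : r ∉ zpowers x) : NS (MulAut.conj r) := by
  have hp : Fact (Nat.Prime 13) := ⟨by norm_num⟩
  by_cases hex : ∃ q ∈ Q, r * (q * x1 * q⁻¹) ≠ (q * x1 * q⁻¹) * r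
  · obtain ⟨q, hq, hne⟩ := hex
    refine ns_conj (k := q⁻¹) ?_
    refine ht.ns_of_ne hcu (hr.qr q⁻¹ (Q.inv_mem hq) r hrR) ?_
    intro heq
    apply hne
    calc r * (q * x1 * q⁻¹) = q * ((q⁻¹ * r * q⁻¹⁻¹) * x1) * q⁻¹ := by group
      _ = q * (x1 * (q⁻¹ * r * q⁻¹⁻¹)) * q⁻¹ := by rw [heq]
      _ = _ := by group
  · exfalso
    push Not at hex
    -- the line `E = C_R(r)`
    have hE := hcu.cent_mem hrR hrn
    have hmem : ∀ q ∈ Q, q * x1 * q⁻¹ ∈ R ⊓ centralizer ({r} : Set G) := fun q hq =>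
      mem_inf.2 ⟨hr.qr q hq x1 ht.r1, mem_centralizer_singleton_iff.2 (hex q hq).symm⟩
    have hx1E : x1 ∈ R ⊓ centralizer ({r} : Set G) := by
      have := hmem 1 (one_mem Q)
      rwa [one_mul, inv_one, mul_one] at this
    have hact : ∀ q ∈ Q, ∃ i : ℤ, ∃ c ∈ zpowers x, q * x1 * q⁻¹ = x1 ^ i * c := fun q hq =>
      Cfsg.Agent.H131.T5M13.exists_pow hcu hE hx1E ht.n1 (hmem q hq)
    have hqc : ∀ q ∈ Q, ∀ c ∈ zpowers x, q * c * q⁻¹ = c := by
      intro q hq c hc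
      obtain ⟨i, rfl⟩ := mem_zpowers_iff.1 hc
      rw [((show Commute q x from h.hyp.qx q hq).zpow_right i).eq]
      group
    have hcm : ∀ c ∈ zpowers x, ∀ s ∈ R, s * c = c * s := fun c hc s hs => hcu.comm_z hc hs
    obtain ⟨k, hk, l, hl, hkl⟩ := h.hyp.nc
    obtain ⟨a, c, hc, hak⟩ := hact k hk
    obtain ⟨b, d, hd, hbl⟩ := hact l hl
    -- `k l` and `l k`
    have hpow : ∀ (c : G), c ∈ zpowers x → ∀ n : ℤ, (x1 ^ n) * c = c * x1 ^ n := fun c hc n =>
      hcm c hc _ (zpow_mem ht.r1 n)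
    have h1 : ∃ c' ∈ zpowers x, (k * l) * x1 * (k * l)⁻¹ = x1 ^ (a * b) * c' := by
      refine ⟨c ^ b * d, mul_mem (zpow_mem hc b) hd, ?_⟩
      have e : Commute (x1 ^ a) c := hpow c hc a
      calc (k * l) * x1 * (k * l)⁻¹ = k * (l * x1 * l⁻¹) * k⁻¹ := by group
        _ = k * (x1 ^ b * d) * k⁻¹ := by rw [hbl]
        _ = (k * x1 * k⁻¹) ^ b * (k * d * k⁻¹) := by rw [conj_zpow]; group
        _ = (x1 ^ a * c) ^ b * d := by rw [hak, hqc k hk d hd]
        _ = x1 ^ (a * b) * (c ^ b * d) := by rw [e.mul_zpow, ← zpow_mul, mul_assoc]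
    have h2 : ∃ c' ∈ zpowers x, (l * k) * x1 * (l * k)⁻¹ = x1 ^ (a * b) * c' := by
      refine ⟨d ^ a * c, mul_mem (zpow_mem hd a) hc, ?_⟩
      have e : Commute (x1 ^ b) d := hpow d hd b
      calc (l * k) * x1 * (l * k)⁻¹ = l * (k * x1 * k⁻¹) * l⁻¹ := by group
        _ = l * (x1 ^ a * c) * l⁻¹ := by rw [hak]
        _ = (l * x1 * l⁻¹) ^ a * (l * c * l⁻¹) := by rw [conj_zpow]; group
        _ = (x1 ^ b * d) ^ a * c := by rw [hbl, hqc l hl c hc]
        _ = x1 ^ (a * b) * (d ^ a * c) := by rw [e.mul_zpow, ← zpow_mul, mul_assoc, mul_comm b a]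
    obtain ⟨c1, hc1, e1⟩ := h1
    obtain ⟨c2, hc2, e2⟩ := h2
    -- the commutator
    have hwQ : k * l * k⁻¹ * l⁻¹ ∈ Q := mul_mem (mul_mem (mul_mem hk hl) (inv_mem hk)) (inv_mem hl)
    have hw1 : k * l * k⁻¹ * l⁻¹ ≠ 1 := by
      intro h1
      apply hkl
      rw [mul_inv_eq_one, mul_inv_eq_iff_eq_mul] at h1
      exact h1
    obtain ⟨m, hm⟩ := h.hyp.q2 ⟨_, hwQ⟩
    obtain ⟨n, hn⟩ := Cfsg.Agent.H794.MonCore.exists_pow_eq h.hyp.only (h.hyp.qx _ hwQ) (h.hyp.qz _ hwQ) hw1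
      (congrArg Subtype.val hm)
    obtain ⟨w, hw⟩ : ∃ w, w = k * l * k⁻¹ * l⁻¹ := ⟨_, rfl⟩
    rw [← hw] at hwQ hn
    -- `w x₁ ^ (a b) w⁻¹ ∈ x₁ ^ (a b) ⟨x⟩`
    have e3 : w * x1 ^ (a * b) * w⁻¹ = x1 ^ (a * b) * (c1 * c2⁻¹) := by
      have e4 : x1 ^ (a * b) = (l * k) * x1 * (l * k)⁻¹ * c2⁻¹ := by rw [e2]; group
      calc w * x1 ^ (a * b) * w⁻¹ = w * ((l * k) * x1 * (l * k)⁻¹ * c2⁻¹) * w⁻¹ := by rw [← e4]
        _ = (w * (l * k)) * x1 * (w * (l * k))⁻¹ * (w * c2 * w⁻¹)⁻¹ := by group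
        _ = (k * l) * x1 * (k * l)⁻¹ * c2⁻¹ := by
          rw [hqc w hwQ c2 hc2]
          have : w * (l * k) = k * l := by rw [hw]; group
          rw [this]
        _ = _ := by rw [e1]; group
    have hab : ¬ (13 : ℤ) ∣ a * b := by
      intro hdv
      have e5 : x1 ^ (a * b) = 1 := by
        rw [← orderOf_dvd_iff_zpow_eq_one, ht.o1]
        exact_mod_cast hdv
      rw [e5, one_mul] at e1
      apply ht.n1
      have e6 : x1 = (k * l)⁻¹ * c1 * (k * l)⁻¹⁻¹ := by rw [← e1]; group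
      rw [e6, hqc _ (Q.inv_mem (mul_mem hk hl)) c1 hc1]
      exact hc1
    obtain ⟨f, hf⟩ := exists_inv13 hab
    have e7 : ∃ c3 ∈ zpowers x, w * x1 * w⁻¹ = x1 * c3 := by
      refine ⟨(c1 * c2⁻¹) ^ f, zpow_mem (mul_mem hc1 (inv_mem hc2)) f, ?_⟩
      have e8 : (x1 ^ (a * b)) ^ f = x1 := by
        rw [← zpow_mul, zpow_eq_of_dvd ht.o1 hf, zpow_one]
      have e9 : Commute (x1 ^ (a * b)) (c1 * c2⁻¹) := hpow _ (mul_mem hc1 (inv_mem hc2)) _
      calc w * x1 * w⁻¹ = w * (x1 ^ (a * b)) ^ f * w⁻¹ := by rw [e8]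
        _ = (w * x1 ^ (a * b) * w⁻¹) ^ f := by rw [conj_zpow]
        _ = (x1 ^ (a * b) * (c1 * c2⁻¹)) ^ f := by rw [e3]
        _ = x1 * (c1 * c2⁻¹) ^ f := by rw [e9.mul_zpow, e8]
    obtain ⟨c3, hc3, e10⟩ := e7
    have e11 : ∀ n : ℕ, w ^ n * x1 * (w ^ n)⁻¹ = x1 * c3 ^ n := by
      intro n
      induction n with
      | zero => simp
      | succ n ih =>
        calc w ^ (n + 1) * x1 * (w ^ (n + 1))⁻¹ = w ^ n * (w * x1 * w⁻¹) * (w ^ n)⁻¹ := by rw [pow_succ]; group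
          _ = w ^ n * (x1 * c3) * (w ^ n)⁻¹ := by rw [e10]
          _ = (w ^ n * x1 * (w ^ n)⁻¹) * (w ^ n * c3 * (w ^ n)⁻¹) := by group
          _ = x1 * c3 ^ n * c3 := by rw [ih, hqc _ (pow_mem hwQ n) c3 hc3]
          _ = x1 * c3 ^ (n + 1) := by rw [pow_succ, mul_assoc]
    have e12 := e11 n
    rw [hn] at e12
    obtain ⟨j, hj⟩ := hr.inv_z h hcu ht.r1
    rw [hj] at e12
    -- `x₁ ^ 2 ∈ ⟨x⟩`
    have e13 : x1 ^ (2 : ℤ) ∈ zpowers x := by
      have e14 : x1 ^ (2 : ℤ) = x ^ j * (c3 ^ n)⁻¹ := by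
        have e15 : Commute (x1) (x ^ j) := hcm _ (zpow_mem_zpowers x j) _ ht.r1
        calc x1 ^ (2 : ℤ) = x1 * (x1 * c3 ^ n) * (c3 ^ n)⁻¹ := by rw [mul_assoc x1, mul_inv_cancel_right, zpow_two]
          _ = x1 * (x1⁻¹ * x ^ j) * (c3 ^ n)⁻¹ := by rw [← e12]
          _ = x ^ j * (c3 ^ n)⁻¹ := by group
      rw [e14]
      exact mul_mem (zpow_mem_zpowers x j) (inv_mem (pow_mem hc3 n))
    apply ht.n1
    have e16 : x1 = (x1 ^ (2 : ℤ)) ^ (7 : ℤ) := by
      rw [← zpow_mul, zpow_eq_of_dvd ht.o1 (a := 2 * 7) (b := 1) (by norm_num), zpow_one]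
    rw [e16]
    exact zpow_mem e13 7

/-- **all elements of order 13** -/
theorem case_one (h : D x z t Q) (hr : RW x Q R W) (hcu : Cu 13 R x) {r : G} (hro : orderOf r = 13) :
    NS (MulAut.conj r) := by
  have hp : Fact (Nat.Prime 13) := ⟨by norm_num⟩
  obtain ⟨x1, ht⟩ := hr.exists_tx h hcu
  have hmain : ∀ s ∈ R, orderOf s = 13 → NS (MulAut.conj s) := by
    intro s hs hso
    by_cases hsx : s ∈ zpowers x
    · obtain ⟨i, rfl⟩ := mem_zpowers_iff.1 hsx
      obtain ⟨k, hk⟩ := ht.cj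
      obtain ⟨g, hg⟩ := isConj_iff.1 hk
      refine ns_conj (k := g⁻¹) ?_
      have e : g⁻¹ * x ^ i * g⁻¹⁻¹ = x1 ^ (k * i) := by
        rw [← hg, conj_zpow, ← zpow_mul]
        group
      rw [e]
      refine ht.ns_of_not_mem h hr hcu (zpow_mem ht.r1 _) ?_
      intro hmem
      apply ht.n1
      have h2 : ¬ (13 : ℤ) ∣ k * i := by
        intro hd
        have h5 : x1 ^ (k * i) = 1 := by
          rw [← orderOf_dvd_iff_zpow_eq_one, ht.o1]
          exact_mod_cast hd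
        rw [h5] at e
        have h6 : x ^ i = 1 := by
          calc x ^ i = g * (g⁻¹ * x ^ i * g⁻¹⁻¹) * g⁻¹ := by group
            _ = 1 := by rw [e]; group
        rw [h6, orderOf_one] at hso
        exact absurd hso (by norm_num)
      obtain ⟨f, hf⟩ := exists_inv13 h2
      have e16 : x1 = (x1 ^ (k * i)) ^ f := by
        rw [← zpow_mul, zpow_eq_of_dvd ht.o1 hf, zpow_one]
      rw [e16]
      exact zpow_mem hmem f
    · exact ht.ns_of_not_mem h hr hcu hs hsx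
  obtain ⟨g, hg⟩ := exists_conj_le hr.card h.hyp.h4 (zp hro)
  refine ns_conj (k := g) ?_
  exact hmain _ (hg r (mem_zpowers r)) (by rw [orderOf_conj', hro])

end Cfsg.Agent.H609.Inv.Thirteen
end

-- part: H609/Inv/MThirLin
section
/-!
# S3830: the Monster, `p = 13`: a group of automorphisms of an elementary abelian group of order `13 ^ 3`

`Cfg.false_of` : `V` elementary abelian of order `13 ^ 3`, `H` a `13'`-group of automorphisms, all involutions of `H`
have fixed points a conjugate of `⟨x⟩`, a subgroup of order 32 of `H` normalises `⟨x⟩`, not all lines are conjugate to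
`⟨x⟩`: contradiction.
-/

set_option autoImplicit false
set_option maxRecDepth 100000
set_option linter.unusedSectionVars false

namespace Cfsg.Agent.H609.Inv.Thirteen

open Subgroup
open scoped Pointwise

section gen

variable {Γ α : Type*} [Group Γ] [Finite Γ] [MulAction Γ α] [Finite α]

theorem dvd_ncard_of_stab {n k : ℕ} (hW : Nat.card Γ = n * k) (S : Set α) (hS : ∀ g : Γ, ∀ a ∈ S, g • a ∈ S)
    (h : ∀ a ∈ S, Nat.card (MulAction.stabilizer Γ a) ∣ k) : n ∣ S.ncard := by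
  classical
  let A : SubMulAction Γ α := ⟨S, fun g {a} ha => hS g a ha⟩
  have e := MulAction.selfEquivSigmaOrbitsQuotientStabilizer Γ ↥A
  have : Fintype (Quotient (MulAction.orbitRel Γ ↥A)) := Fintype.ofFinite _
  have hA : S.ncard = Nat.card ↥A := (Nat.card_coe_set_eq S).symm
  rw [hA, Nat.card_congr e, Nat.card_sigma]
  refine Finset.dvd_sum fun i _ => ?_
  have h1 := Subgroup.card_mul_index (MulAction.stabilizer Γ (Quotient.out i))
  rw [hW] at h1
  have hst : MulAction.stabilizer Γ (Quotient.out i) = MulAction.stabilizer Γ ((Quotient.out i : ↥A) : α) := by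
    ext g
    rw [MulAction.mem_stabilizer_iff, MulAction.mem_stabilizer_iff]
    exact ⟨fun h => congrArg Subtype.val h, fun h => Subtype.ext h⟩
  obtain ⟨c, hc⟩ := h _ (Quotient.out i : ↥A).2
  rw [← hst] at hc
  have h2 : 0 < Nat.card (MulAction.stabilizer Γ (Quotient.out i)) := Nat.card_pos
  refine ⟨c, ?_⟩
  apply Nat.eq_of_mul_eq_mul_left h2
  show Nat.card (MulAction.stabilizer Γ (Quotient.out i)) * (MulAction.stabilizer Γ (Quotient.out i)).index = _
  rw [h1]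
  conv_lhs => rw [hc]
  ring

theorem ncard_modEq {p : ℕ} [Fact p.Prime] (hΓ : IsPGroup p Γ) (S : Set α) (hS : ∀ g : Γ, ∀ a ∈ S, g • a ∈ S) :
    S.ncard ≡ {a | a ∈ S ∧ ∀ g : Γ, g • a = a}.ncard [MOD p] := by
  let A : SubMulAction Γ α := ⟨S, fun g {a} ha => hS g a ha⟩
  have h1 := hΓ.card_modEq_card_fixedPoints (α := ↥A)
  have hA : S.ncard = Nat.card ↥A := (Nat.card_coe_set_eq S).symm
  have hB : {a | a ∈ S ∧ ∀ g : Γ, g • a = a}.ncard = Nat.card (MulAction.fixedPoints Γ ↥A) := by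
    rw [← Nat.card_coe_set_eq]
    refine Nat.card_congr ⟨fun a => ⟨⟨a.1, a.2.1⟩, fun g => Subtype.ext (a.2.2 g)⟩,
      fun a => ⟨a.1.1, a.1.2, fun g => congrArg Subtype.val (a.2 g)⟩, fun _ => rfl, fun _ => rfl⟩
  rw [hA, hB]
  exact h1

theorem card_orbit_mul (a : α) : (MulAction.orbit Γ a).ncard * Nat.card (MulAction.stabilizer Γ a) = Nat.card Γ := by
  rw [← Nat.card_coe_set_eq, ← Nat.card_prod]
  exact Nat.card_congr (MulAction.orbitProdStabilizerEquivGroup Γ a)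

end gen

variable {V : Type*} [Group V] [Finite V]

/-- coprime action -/
theorem eq_one_of_triv (hex : ∀ v : V, v ^ 13 = 1) {c : MulAut V} {P : Subgroup V} (hP : ∀ v ∈ P, c v = v)
    (hV : ∀ v, v⁻¹ * c v ∈ P) (hco : ¬ 13 ∣ orderOf c) : c = 1 := by
  apply MulEquiv.ext
  intro v
  have h1 : ∀ n : ℕ, (c ^ n) v = v * (v⁻¹ * c v) ^ n := by
    intro n
    induction n with
    | zero => simp
    | succ n ih =>
      have h2 : ∀ m : ℕ, (c ^ m) (v⁻¹ * c v) = v⁻¹ * c v := by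
        intro m
        induction m with
        | zero => rfl
        | succ m im => rw [pow_succ, MulAut.mul_apply, hP _ (hV v), im]
      rw [pow_succ, MulAut.mul_apply]
      calc (c ^ n) (c v) = (c ^ n) (v * (v⁻¹ * c v)) := by rw [mul_inv_cancel_left]
        _ = (c ^ n) v * (v⁻¹ * c v) := by rw [map_mul, h2]
        _ = v * (v⁻¹ * c v) ^ (n + 1) := by rw [ih, pow_succ, mul_assoc]
  have h2 := h1 (orderOf c)
  rw [pow_orderOf_eq_one, MulAut.one_apply] at h2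
  have h3 : (v⁻¹ * c v) ^ orderOf c = 1 := by
    have h4 : v * 1 = v * (v⁻¹ * c v) ^ orderOf c := by rw [mul_one]; exact h2
    exact (mul_left_cancel h4).symm
  have h4 : orderOf (v⁻¹ * c v) ∣ 13 := orderOf_dvd_of_pow_eq_one (hex _)
  have h5 : orderOf (v⁻¹ * c v) ∣ orderOf c := orderOf_dvd_of_pow_eq_one h3
  rcases (Nat.dvd_prime (by norm_num)).1 h4 with h6 | h6
  · rw [orderOf_eq_one_iff, inv_mul_eq_one] at h6
    rw [MulAut.one_apply]
    exact h6.symm
  · rw [h6] at h5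
    exact absurd h5 hco

theorem smul_zpowers (h : MulAut V) (v : V) : h • zpowers v = zpowers (h v) := MonoidHom.map_zpowers h.toMonoidHom v

/-- lines -/
theorem line_eq {L : Subgroup V} (hL : Nat.card ↥L = 13) {v : V} (hv : v ∈ L) (hv1 : v ≠ 1) : L = zpowers v := by
  symm
  refine Subgroup.eq_of_le_of_card_ge (zpowers_le.2 hv) ?_
  have h1 := _root_.orderOf_dvd_natCard (⟨v, hv⟩ : ↥L)
  rw [Subgroup.orderOf_mk, hL] at h1
  rcases (Nat.dvd_prime (by norm_num)).1 h1 with h2 | h2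
  · exact absurd (orderOf_eq_one_iff.1 h2) hv1
  · rw [Nat.card_zpowers, h2, hL]

theorem card_zp (hex : ∀ v : V, v ^ 13 = 1) {v : V} (hv : v ≠ 1) : Nat.card ↥(zpowers v) = 13 := by
  rw [Nat.card_zpowers]
  rcases (Nat.dvd_prime (by norm_num)).1 (orderOf_dvd_of_pow_eq_one (hex v)) with h2 | h2
  · exact absurd (orderOf_eq_one_iff.1 h2) hv
  · exact h2

theorem card_ne_one_sub (L : Subgroup V) : {v : V | v ∈ L ∧ v ≠ 1}.ncard = Nat.card ↥L - 1 := by
  have h1 : {v : V | v ∈ L ∧ v ≠ 1} = (L : Set V) \ ({1} : Set V) := by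
    ext v
    simp
  rw [h1, Set.ncard_sdiff (by simp) (Set.toFinite _), Set.ncard_singleton, ← Nat.card_coe_set_eq]
  rfl

/-- the number of lines -/
theorem card_lines (hex : ∀ v : V, v ^ 13 = 1) (hcard : Nat.card V = 13 ^ 3) :
    {L : Subgroup V | Nat.card ↥L = 13}.ncard = 183 := by
  have h1 : Nat.card {v : V // v ≠ 1} = 2196 := by
    have h2 := card_ne_one_sub (⊤ : Subgroup V)
    rw [Subgroup.card_top, hcard, ← Nat.card_coe_set_eq] at h2
    have h3 : Nat.card {v : V // v ≠ 1} = Nat.card ↥{v : V | v ∈ (⊤ : Subgroup V) ∧ v ≠ 1} :=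
      Nat.card_congr (Equiv.subtypeEquivRight fun v => by simp)
    rw [h3, h2]
    norm_num
  let e : {v : V // v ≠ 1} ≃ Σ L : ↥{L : Subgroup V | Nat.card ↥L = 13}, ↥{v : V | v ∈ (L : Subgroup V) ∧ v ≠ 1} :=
    { toFun := fun v => ⟨⟨zpowers v.1, card_zp hex v.2⟩, ⟨v.1, mem_zpowers v.1, v.2⟩⟩
      invFun := fun s => ⟨s.2.1, s.2.2.2⟩
      left_inv := fun v => rfl
      right_inv := by
        rintro ⟨⟨L, hL⟩, ⟨v, hv, hv1⟩⟩
        have h := line_eq hL hv hv1
        subst h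
        rfl }
  have h2 := Nat.card_congr e
  classical
  have hft := Fintype.ofFinite ↥{L : Subgroup V | Nat.card ↥L = 13}
  rw [h1, Nat.card_sigma, Finset.sum_congr rfl (fun L _ => by
    rw [Nat.card_coe_set_eq, card_ne_one_sub, L.2]), Finset.sum_const, Finset.card_univ, smul_eq_mul,
    ← Nat.card_eq_fintype_card, Nat.card_coe_set_eq] at h2
  omega

/-- The configuration. -/
structure Cfg (H : Subgroup (MulAut V)) (x : V) (z : MulAut V) : Prop where
  cm : ∀ a b : V, a * b = b * a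
  ex : ∀ v : V, v ^ 13 = 1
  card : Nat.card V = 13 ^ 3
  h13 : ¬ 13 ∣ Nat.card ↥H
  x1 : x ≠ 1
  zH : z ∈ H
  zz : z * z = 1
  zx : z x = x
  zf : ∀ v, z v = v → v ∈ zpowers x
  inv : ∀ u ∈ H, u * u = 1 → u ≠ 1 → ∃ g ∈ H, u (g x) = g x ∧ ∀ v, u v = v → v ∈ zpowers (g x)

section cfg

variable {H : Subgroup (MulAut V)} {x : V} {z : MulAut V}

theorem Cfg.ord (h : Cfg H x z) {c : MulAut V} (hc : c ∈ H) : ¬ 13 ∣ orderOf c := by
  intro hd
  apply h.h13
  have h1 := _root_.orderOf_dvd_natCard (⟨c, hc⟩ : ↥H)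
  rw [Subgroup.orderOf_mk] at h1
  exact hd.trans h1

/-- an involution is determined by its fixed points -/
theorem Cfg.uniq (h : Cfg H x z) {u u' : MulAut V} {y : V} (hu : u ∈ H) (hu' : u' ∈ H) (huu : u * u = 1)
    (huu' : u' * u' = 1) (hy : u y = y) (hy' : u' y = y) (hf : ∀ v, u v = v → v ∈ zpowers y)
    (hf' : ∀ v, u' v = v → v ∈ zpowers y) : u = u' := by
  have hap : ∀ v, u (u v) = v := fun v => by rw [← MulAut.mul_apply, huu, MulAut.one_apply]
  have hap' : ∀ v, u' (u' v) = v := fun v => by rw [← MulAut.mul_apply, huu', MulAut.one_apply]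
  -- `v * u v ∈ ⟨y⟩`
  have h1 : ∀ v, v * u v ∈ zpowers y := fun v => hf _ (by rw [map_mul, hap, h.cm])
  have h1' : ∀ v, v * u' v ∈ zpowers y := fun v => hf' _ (by rw [map_mul, hap', h.cm])
  have h2 : ∀ v ∈ zpowers y, u v = v := by
    intro v hv
    obtain ⟨i, rfl⟩ := mem_zpowers_iff.1 hv
    rw [map_zpow, hy]
  have h2' : ∀ v ∈ zpowers y, u' v = v := by
    intro v hv
    obtain ⟨i, rfl⟩ := mem_zpowers_iff.1 hv
    rw [map_zpow, hy']
  have h3 : u * u' = 1 := by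
    refine eq_one_of_triv h.ex (P := zpowers y) (fun v hv => ?_) (fun v => ?_) (h.ord (mul_mem hu hu'))
    · rw [MulAut.mul_apply, h2' v hv, h2 v hv]
    · rw [MulAut.mul_apply]
      -- `u (u' v) = v (v * u v)⁻¹ (v * u' v)`
      have e1 : u' v = v⁻¹ * (v * u' v) := by group
      have e2 : u (u' v) = (u v)⁻¹ * (v * u' v) := by
        conv_lhs => rw [e1]
        rw [map_mul, map_inv, h2 _ (h1' v)]
      have e3 : v⁻¹ * u (u' v) = (v * u v)⁻¹ * (v * u' v) := by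
        rw [e2, ← mul_assoc, mul_inv_rev, h.cm v⁻¹]
      rw [e3]
      exact mul_mem (inv_mem (h1 v)) (h1' v)
  have h4 : u' = u⁻¹ := eq_inv_of_mul_eq_one_right h3
  rw [h4]
  exact (inv_eq_of_mul_eq_one_left huu).symm

theorem Cfg.z1 (h : Cfg H x z) : z ≠ 1 := by
  intro h1
  have h2 : zpowers x = ⊤ := by
    rw [eq_top_iff]
    intro v _
    exact h.zf v (by rw [h1, MulAut.one_apply])
  have h3 := card_zp h.ex h.x1
  rw [h2, Subgroup.card_top, h.card] at h3
  norm_num at h3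

/-- conjugates of `z` -/
theorem conj_fix (h : Cfg H x z) {g : MulAut V} {v : V} : (g * z * g⁻¹) v = v ↔ g⁻¹ v ∈ zpowers x := by
  have e : (g * z * g⁻¹) v = g (z (g⁻¹ v)) := rfl
  rw [e]
  constructor
  · intro h1
    apply h.zf
    have h2 : g⁻¹ (g (z (g⁻¹ v))) = g⁻¹ v := by rw [h1]
    rwa [← MulAut.mul_apply, inv_mul_cancel, MulAut.one_apply] at h2
  · intro h1
    obtain ⟨i, hi⟩ := mem_zpowers_iff.1 h1
    rw [← hi, map_zpow, h.zx, hi, ← MulAut.mul_apply, mul_inv_cancel, MulAut.one_apply]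

theorem mem_zp_iff {g : MulAut V} {v : V} : g⁻¹ v ∈ zpowers x ↔ v ∈ zpowers (g x) := by
  constructor
  · intro h
    obtain ⟨i, hi⟩ := mem_zpowers_iff.1 h
    refine mem_zpowers_iff.2 ⟨i, ?_⟩
    rw [← map_zpow, hi, ← MulAut.mul_apply, mul_inv_cancel, MulAut.one_apply]
  · intro h
    obtain ⟨i, hi⟩ := mem_zpowers_iff.1 h
    refine mem_zpowers_iff.2 ⟨i, ?_⟩
    rw [← hi, ← map_zpow, ← MulAut.mul_apply, inv_mul_cancel, MulAut.one_apply]

theorem Cfg.conj_sq (h : Cfg H x z) (g : MulAut V) : (g * z * g⁻¹) * (g * z * g⁻¹) = 1 := by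
  calc (g * z * g⁻¹) * (g * z * g⁻¹) = g * (z * z) * g⁻¹ := by group
    _ = 1 := by rw [h.zz]; group

/-- all involutions of `H` are conjugate -/
theorem Cfg.exists_conj (h : Cfg H x z) {u : MulAut V} (hu : u ∈ H) (huu : u * u = 1) (hu1 : u ≠ 1) :
    ∃ g ∈ H, u = g * z * g⁻¹ := by
  obtain ⟨g, hg, hux, huf⟩ := h.inv u hu huu hu1
  refine ⟨g, hg, ?_⟩
  refine h.uniq (y := g x) hu (mul_mem (mul_mem hg h.zH) (inv_mem hg)) huu (h.conj_sq g) hux ?_ huf ?_
  · rw [conj_fix h, mem_zp_iff]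
    exact mem_zpowers _
  · intro v hv
    rwa [conj_fix h, mem_zp_iff] at hv

/-- the stabilizer of `⟨x⟩` centralises `z` -/
theorem Cfg.stab (h : Cfg H x z) {g : MulAut V} (hg : g ∈ H) (hgx : g • zpowers x = zpowers x) : g * z * g⁻¹ = z := by
  rw [smul_zpowers] at hgx
  refine h.uniq (y := x) (mul_mem (mul_mem hg h.zH) (inv_mem hg)) h.zH (h.conj_sq g) h.zz ?_ h.zx ?_ h.zf
  · rw [conj_fix h, mem_zp_iff, hgx]
    exact mem_zpowers _
  · intro v hv
    rwa [conj_fix h, mem_zp_iff, hgx] at hv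

end cfg

/-- involutions among the powers -/
theorem exists_invol_of_dvd {G : Type*} [Group G] [Finite G] {w : G} {n : ℕ} (hd : orderOf w ∣ 2 ^ n) (hw1 : w ≠ 1) :
    ∃ n : ℕ, orderOf (w ^ n) = 2 := by
  obtain ⟨k, -, hk⟩ := (Nat.dvd_prime_pow Nat.prime_two).1 hd
  have hk0 : k ≠ 0 := by
    rintro rfl
    rw [pow_zero, orderOf_eq_one_iff] at hk
    exact hw1 hk
  obtain ⟨m, rfl⟩ := Nat.exists_eq_succ_of_ne_zero hk0
  refine ⟨2 ^ m, ?_⟩
  rw [orderOf_pow, hk, Nat.gcd_eq_right (pow_dvd_pow 2 (Nat.le_succ m)), Nat.succ_eq_add_one, pow_succ]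
  exact Nat.mul_div_cancel_left _ (pow_pos (by norm_num) m)

theorem sq_one {G : Type*} [Group G] {u : G} (hu : orderOf u = 2) : u * u = 1 ∧ u ≠ 1 := by
  refine ⟨by rw [← pow_two, ← hu, pow_orderOf_eq_one], ?_⟩
  rintro rfl
  rw [orderOf_one] at hu
  exact absurd hu (by norm_num)

section cfg2

variable {H W : Subgroup (MulAut V)} {x : V} {z : MulAut V}

theorem Cfg.dvd_card (h : Cfg H x z) : Nat.card ↥H ∣ 4427136 := by
  have hp : Fact (Nat.Prime 13) := ⟨by norm_num⟩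
  let _ : CommGroup V := { (inferInstance : Group V) with mul_comm := h.cm }
  obtain ⟨e⟩ := Cfsg.Agent.Lib.ElemAbGL.mulAut_equiv_GL (V := V) 13 3 h.ex h.card
  have h1 : Nat.card (MulAut V) = 13 ^ 3 * 4427136 := by
    rw [Nat.card_congr e.toEquiv, Matrix.card_GL_field, ZMod.card, Fin.prod_univ_three]
    norm_num
  have h2 : Nat.card ↥H ∣ 13 ^ 3 * 4427136 := by
    rw [← h1]
    exact Subgroup.card_subgroup_dvd_card H
  have h3 : (Nat.card ↥H).Coprime (13 ^ 3) :=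
    (Nat.Coprime.pow_left 3 ((Nat.Prime.coprime_iff_not_dvd (by norm_num)).2 h.h13)).symm
  exact h3.dvd_of_dvd_mul_left h2

theorem Cfg.zap (h : Cfg H x z) (v : V) : z (z v) = v := by rw [← MulAut.mul_apply, h.zz, MulAut.one_apply]

/-- the inverted elements -/
def Cfg.U (h : Cfg H x z) : Subgroup V where
  carrier := {v | z v = v⁻¹}
  one_mem' := by simp only [_root_.Set.mem_ofPred_eq, _root_.map_one, _root_.inv_one]
  mul_mem' := by
    intro a b ha hb
    have ha' : z a = a⁻¹ := ha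
    have hb' : z b = b⁻¹ := hb
    show z (a * b) = (a * b)⁻¹
    rw [map_mul, ha', hb', mul_inv_rev, h.cm]
  inv_mem' := by
    intro a ha
    have ha' : z a = a⁻¹ := ha
    show z a⁻¹ = a⁻¹⁻¹
    rw [map_inv, ha']

theorem Cfg.mem_U (h : Cfg H x z) {v : V} : v ∈ h.U ↔ z v = v⁻¹ := Iff.rfl

theorem Cfg.sub_mem_U (h : Cfg H x z) (v : V) : v⁻¹ * z v ∈ h.U := by
  rw [h.mem_U, map_mul, map_inv, h.zap, mul_inv_rev, inv_inv]

theorem Cfg.card_U (h : Cfg H x z) : Nat.card ↥h.U = 13 ^ 2 := by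
  let φ : V →* V :=
    { toFun := fun v => v⁻¹ * z v
      map_one' := by simp
      map_mul' := fun a b => by
        rw [map_mul, mul_inv_rev]
        calc b⁻¹ * a⁻¹ * (z a * z b) = b⁻¹ * (a⁻¹ * z a) * z b := by group
          _ = (a⁻¹ * z a) * b⁻¹ * z b := by rw [h.cm b⁻¹]
          _ = a⁻¹ * z a * (b⁻¹ * z b) := by group }
  have hker : φ.ker = zpowers x := by
    ext v
    rw [MonoidHom.mem_ker]
    show v⁻¹ * z v = 1 ↔ _
    rw [inv_mul_eq_one]
    constructor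
    · intro h1
      exact h.zf v h1.symm
    · intro h1
      obtain ⟨i, rfl⟩ := mem_zpowers_iff.1 h1
      rw [map_zpow, h.zx]
  have hrange : φ.range = h.U := by
    ext v
    constructor
    · rintro ⟨w, rfl⟩
      exact h.sub_mem_U w
    · intro hv
      rw [h.mem_U] at hv
      refine ⟨v ^ 6, ?_⟩
      show (v ^ 6)⁻¹ * z (v ^ 6) = v
      rw [map_pow, hv]
      calc (v ^ 6)⁻¹ * v⁻¹ ^ 6 = (v ^ 13)⁻¹ * v := by group
        _ = v := by rw [h.ex]; group
  have h1 := φ.ker.card_mul_index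
  rw [Subgroup.index_ker, hker, hrange, h.card, card_zp h.ex h.x1] at h1
  omega

/-- a subgroup with 64 elements does not normalise `⟨x⟩` -/
theorem Cfg.not_64 (h : Cfg H x z) (hd : 64 ∣ Nat.card ↥(MulAction.stabilizer ↥H (zpowers x))) : False := by
  have hp : Fact (Nat.Prime 13) := ⟨by norm_num⟩
  have h2 : Fact (Nat.Prime 2) := ⟨Nat.prime_two⟩
  have hcomm : ∀ g : ↥(MulAction.stabilizer ↥H (zpowers x)), ∀ v : V,
      ((g : ↥H) : MulAut V) (z v) = z (((g : ↥H) : MulAut V) v) := by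
    intro g v
    have h1 := h.stab (g : ↥H).2 g.2
    have h2 : ((g : ↥H) : MulAut V) * z = z * ((g : ↥H) : MulAut V) := mul_inv_eq_iff_eq_mul.1 h1
    exact congrArg (fun f : MulAut V => f v) h2
  let _ : MulDistribMulAction ↥(MulAction.stabilizer ↥H (zpowers x)) ↥h.U :=
    { smul := fun g v => ⟨((g : ↥H) : MulAut V) v, by
        rw [h.mem_U, ← hcomm, h.mem_U.1 v.2, map_inv]⟩
      one_smul := fun v => rfl
      mul_smul := fun a b v => rfl
      smul_mul := fun a v w => Subtype.ext (map_mul _ _ _)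
      smul_one := fun a => Subtype.ext (map_one _) }
  obtain ⟨T, hT⟩ := Sylow.exists_subgroup_card_pow_prime (G := ↥(MulAction.stabilizer ↥H (zpowers x))) 2 (n := 6)
    (by norm_num only [_root_.MulAction.mem_stabilizer_iff]; exact hd)
  let f := (MulDistribMulAction.toMulAut ↥(MulAction.stabilizer ↥H (zpowers x)) ↥h.U).comp T.subtype
  have hf : Function.Injective f := by
    rw [injective_iff_map_eq_one]
    intro t ht
    by_contra ht1
    have ht1' : (((t : ↥(MulAction.stabilizer ↥H (zpowers x))) : ↥H) : MulAut V) ≠ 1 := fun h1 =>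
      ht1 (Subtype.ext (Subtype.ext (Subtype.ext h1)))
    obtain ⟨c, hc⟩ : ∃ c : MulAut V, c = (((t : ↥(MulAction.stabilizer ↥H (zpowers x))) : ↥H) : MulAut V) := ⟨_, rfl⟩
    rw [← hc] at ht1'
    have hcH : c ∈ H := hc ▸ ((t : ↥(MulAction.stabilizer ↥H (zpowers x))) : ↥H).2
    have hco : orderOf c ∣ 2 ^ 6 := by
      rw [hc, Subgroup.orderOf_coe, Subgroup.orderOf_coe, Subgroup.orderOf_coe, ← hT]
      exact _root_.orderOf_dvd_natCard t
    have hcU : ∀ v ∈ h.U, c v = v := by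
      intro v hv
      have h1 : f t ⟨v, hv⟩ = ⟨v, hv⟩ := by rw [ht, MulAut.one_apply]
      have h2 := congrArg Subtype.val h1
      rw [hc]
      exact h2
    obtain ⟨n, hn⟩ := exists_invol_of_dvd hco ht1'
    obtain ⟨hn1, hn2⟩ := sq_one hn
    obtain ⟨g, hg, hgx, hgf⟩ := h.inv _ (pow_mem hcH n) hn1 hn2
    have hcU' : ∀ v ∈ h.U, (c ^ n) v = v := by
      intro v hv
      have : ∀ m : ℕ, (c ^ m) v = v := by
        intro m
        induction m with
        | zero => rfl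
        | succ m im => rw [pow_succ, MulAut.mul_apply, hcU v hv, im]
      exact this n
    have hle : h.U ≤ zpowers (g x) := fun v hv => hgf v (hcU' v hv)
    have h3 := Subgroup.card_le_of_le hle
    have h4 : g x ≠ 1 := by
      intro h5
      apply h.x1
      exact (MulEquiv.map_eq_one_iff g).1 h5
    rw [h.card_U, card_zp h.ex h4] at h3
    norm_num at h3
  have h5 : Nat.card ↥T ∣ Nat.card (MulAut ↥h.U) := Subgroup.card_dvd_of_injective f hf
  have h6 := h5.trans (Cfsg.Agent.SmallSimple.BurnsideNC.card_mulAut_dvd_of_card_eq_sq h.card_U)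
  rw [hT] at h6
  norm_num at h6

/-- the stabilizers of bad lines -/
theorem Cfg.bad_stab (h : Cfg H x z) (hWH : W ≤ H) (hW : Nat.card ↥W = 32) {L : Subgroup V}
    (hL : Nat.card ↥L = 13) (hb : L ∉ MulAction.orbit ↥H (zpowers x)) :
    Nat.card ↥(MulAction.stabilizer ↥W L) ∣ 4 := by
  have h1 : Nat.card ↥(MulAction.stabilizer ↥W L) ∣ {v : V | v ∈ L ∧ v ≠ 1}.ncard := by
    refine dvd_ncard_of_stab (Γ := ↥(MulAction.stabilizer ↥W L)) (k := 1) (mul_one _).symm _ ?_ ?_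
    · rintro w v ⟨hv, hv1⟩
      refine ⟨?_, fun h1 => hv1 ?_⟩
      · have h2 : ((w : ↥W) : MulAut V) • L = L := w.2
        have h3 := Subgroup.smul_mem_pointwise_smul v ((w : ↥W) : MulAut V) L hv
        rw [h2] at h3
        exact h3
      · exact (MulEquiv.map_eq_one_iff ((w : ↥W) : MulAut V)).1 h1
    · rintro v ⟨hv, hv1⟩
      rw [Nat.dvd_one, Subgroup.card_eq_one, eq_bot_iff]
      intro w hw
      rw [mem_bot]
      by_contra hw1
      obtain ⟨c, hc⟩ : ∃ c : MulAut V, c = ((w : ↥W) : MulAut V) := ⟨_, rfl⟩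
      have hc1 : c ≠ 1 := fun h1 => hw1 (Subtype.ext (Subtype.ext (hc ▸ h1)))
      have hcW : c ∈ W := hc ▸ (w : ↥W).2
      have hcv : c v = v := by rw [hc]; exact hw
      have hco : orderOf c ∣ 2 ^ 5 := by
        rw [hc, Subgroup.orderOf_coe]
        have := _root_.orderOf_dvd_natCard (w : ↥W)
        rwa [hW] at this
      obtain ⟨n, hn⟩ := exists_invol_of_dvd hco hc1
      obtain ⟨hn1, hn2⟩ := sq_one hn
      obtain ⟨g, hg, hgx, hgf⟩ := h.inv _ (hWH (pow_mem hcW n)) hn1 hn2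
      have hcv' : ∀ m : ℕ, (c ^ m) v = v := by
        intro m
        induction m with
        | zero => rfl
        | succ m im => rw [pow_succ, MulAut.mul_apply, hcv, im]
      apply hb
      have h4 : g x ≠ 1 := by
        intro h5
        apply h.x1
        exact (MulEquiv.map_eq_one_iff g).1 h5
      refine ⟨⟨g, hg⟩, ?_⟩
      show g • zpowers x = L
      rw [smul_zpowers, line_eq hL hv hv1]
      exact line_eq (card_zp h.ex h4) (hgf v (hcv' n)) hv1
  rw [card_ne_one_sub, hL] at h1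
  have h2 : Nat.card ↥(MulAction.stabilizer ↥W L) ∣ 32 := by
    rw [← hW]
    exact Subgroup.card_subgroup_dvd_card _
  have h3 := Nat.dvd_gcd h1 h2
  norm_num only [_root_.MulAction.mem_stabilizer_iff] at h3
  exact h3

theorem orbit_line {L : Subgroup V} (hL : Nat.card ↥L = 13) {K : Subgroup V}
    (hK : K ∈ MulAction.orbit ↥H L) : Nat.card ↥K = 13 := by
  obtain ⟨g, rfl⟩ := hK
  show Nat.card ↥((g : MulAut V) • L) = 13
  rw [← hL]
  exact Subgroup.card_map_of_injective (g : MulAut V).injective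

theorem Cfg.mod_eight (h : Cfg H x z) (hWH : W ≤ H) (hW : Nat.card ↥W = 32) :
    8 ∣ 183 - (MulAction.orbit ↥H (zpowers x)).ncard := by
  have h1 : 8 ∣ ({L : Subgroup V | Nat.card ↥L = 13} \ MulAction.orbit ↥H (zpowers x)).ncard := by
    refine dvd_ncard_of_stab (Γ := ↥W) (n := 8) (k := 4) (by rw [hW]) _ ?_ ?_
    · rintro w L ⟨hL, hb⟩
      refine ⟨?_, ?_⟩
      · show Nat.card ↥((w : MulAut V) • L) = 13
        rw [← hL]
        exact Subgroup.card_map_of_injective (w : MulAut V).injective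
      · intro h2
        apply hb
        obtain ⟨k, hk⟩ := h2
        have hk' : k • zpowers x = (⟨w, hWH w.2⟩ : ↥H) • L := hk
        refine ⟨(⟨w, hWH w.2⟩ : ↥H)⁻¹ * k, ?_⟩
        show ((⟨w, hWH w.2⟩ : ↥H)⁻¹ * k) • zpowers x = L
        rw [mul_smul, hk', inv_smul_smul]
    · rintro L ⟨hL, hb⟩
      exact h.bad_stab hWH hW hL hb
  have hsub : MulAction.orbit ↥H (zpowers x) ⊆ {L : Subgroup V | Nat.card ↥L = 13} := fun K hK =>
    orbit_line (card_zp h.ex h.x1) hK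
  rwa [Set.ncard_sdiff hsub (Set.toFinite _), card_lines h.ex h.card] at h1

end cfg2

section cfg3

variable {H W : Subgroup (MulAut V)} {x : V} {z : MulAut V}

theorem arith_seven : ∀ m < 183, m ∣ 4427136 → 8 ∣ 183 - m → 7 ∣ m ∧ ¬ 2 ∣ m := by decide +kernel

theorem arith_eight : ∀ s < 177, s ∣ 4427136 → 8 ∣ s → s % 7 = 1 → ¬ 64 ∣ s → s = 8 := by decide +kernel

/-- the number of conjugates of `⟨x⟩` -/
theorem Cfg.seven (h : Cfg H x z) (hWH : W ≤ H) (hW : Nat.card ↥W = 32)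
    (hbad : ∃ a : V, a ≠ 1 ∧ ∀ g ∈ H, a ∉ zpowers (g x)) :
    7 ∣ (MulAction.orbit ↥H (zpowers x)).ncard ∧ ¬ 2 ∣ (MulAction.orbit ↥H (zpowers x)).ncard := by
  obtain ⟨a, ha1, ha⟩ := hbad
  have hsub : MulAction.orbit ↥H (zpowers x) ⊆ {L : Subgroup V | Nat.card ↥L = 13} := fun K hK =>
    orbit_line (card_zp h.ex h.x1) hK
  have hlt : (MulAction.orbit ↥H (zpowers x)).ncard < 183 := by
    rw [← card_lines h.ex h.card]
    refine Set.ncard_lt_ncard ⟨hsub, fun hc => ?_⟩ (Set.toFinite _)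
    obtain ⟨g, hg⟩ := hc (show Nat.card ↥(zpowers a) = 13 from card_zp h.ex ha1)
    have hg' : (g : MulAut V) • zpowers x = zpowers a := hg
    rw [smul_zpowers] at hg'
    apply ha g g.2
    rw [hg']
    exact mem_zpowers a
  refine arith_seven _ hlt ?_ (h.mod_eight hWH hW)
  refine dvd_trans ?_ h.dvd_card
  rw [← card_orbit_mul (Γ := ↥H) (zpowers x)]
  exact dvd_mul_right _ _

/-- the fixed points of an automorphism -/
def Fx (c : MulAut V) : Subgroup V where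
  carrier := {v | c v = v}
  one_mem' := by simp
  mul_mem' := by
    intro a b ha hb
    have ha' : c a = a := ha
    have hb' : c b = b := hb
    show c (a * b) = a * b
    rw [map_mul, ha', hb']
  inv_mem' := by
    intro a ha
    have ha' : c a = a := ha
    show c a⁻¹ = a⁻¹
    rw [map_inv, ha']

theorem fixed_iff {β : Type*} [MulAction (MulAut V) β] {c : MulAut V} {b : β} :
    (∀ g : ↥(zpowers c), g • b = b) ↔ c • b = b := by
  constructor
  · intro h
    exact h ⟨c, mem_zpowers c⟩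
  · rintro h ⟨g, hg⟩
    have h1 : zpowers c ≤ MulAction.stabilizer (MulAut V) b := zpowers_le.2 h
    exact h1 hg

theorem pg7 {c : MulAut V} (hc : orderOf c = 7) : IsPGroup 7 ↥(zpowers c) :=
  IsPGroup.of_card (n := 1) (by rw [Nat.card_zpowers, hc, pow_one])

theorem Cfg.card_Fx (h : Cfg H x z) {c : MulAut V} (hc : orderOf c = 7) : Nat.card ↥(Fx c) = 13 := by
  have h7 : Fact (Nat.Prime 7) := ⟨by norm_num⟩
  have h1 := ncard_modEq (Γ := ↥(zpowers c)) (pg7 hc) (Set.univ : Set V) (fun _ _ _ => Set.mem_univ _)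
  have h2 : {a : V | a ∈ (Set.univ : Set V) ∧ ∀ g : ↥(zpowers c), g • a = a} = (Fx c : Set V) := by
    ext v
    constructor
    · rintro ⟨-, hv⟩
      exact fixed_iff.1 hv
    · intro hv
      exact ⟨Set.mem_univ _, fixed_iff.2 hv⟩
  rw [h2, Set.ncard_univ, h.card, ← Nat.card_coe_set_eq] at h1
  have h3 : Nat.card ↥(Fx c) ∣ 13 ^ 3 := by rw [← h.card]; exact Subgroup.card_subgroup_dvd_card _
  obtain ⟨k, hk3, hk⟩ := (Nat.dvd_prime_pow (by norm_num)).1 h3
  have h4 : (13 ^ 3) % 7 = Nat.card ↥(Fx c) % 7 := h1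
  rw [hk] at h4 ⊢
  interval_cases k
  · norm_num at h4
  · norm_num
  · norm_num at h4
  · exfalso
    have h5 : Fx c = ⊤ := Subgroup.eq_top_of_card_eq _ (by rw [hk, h.card])
    have h6 : c = 1 := by
      apply MulEquiv.ext
      intro v
      have : v ∈ Fx c := by rw [h5]; exact mem_top v
      exact this
    rw [h6, orderOf_one] at hc
    exact absurd hc (by norm_num)

/-- the only invariant line -/
theorem Cfg.inv_line (h : Cfg H x z) {c : MulAut V} (hc : orderOf c = 7) {L : Subgroup V} (hL : Nat.card ↥L = 13)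
    (hcL : c • L = L) : L = Fx c := by
  have h7 : Fact (Nat.Prime 7) := ⟨by norm_num⟩
  have hg : ∀ g : ↥(zpowers c), g • L = L := fixed_iff.2 hcL
  have h1 := ncard_modEq (Γ := ↥(zpowers c)) (pg7 hc) (L : Set V) (fun g v hv => by
    have h3 := Subgroup.smul_mem_pointwise_smul v (g : MulAut V) L hv
    have h4 : (g : MulAut V) • L = L := hg g
    rw [h4] at h3
    exact h3)
  have h2 : {a : V | a ∈ (L : Set V) ∧ ∀ g : ↥(zpowers c), g • a = a} = ((L ⊓ Fx c : Subgroup V) : Set V) := by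
    ext v
    constructor
    · rintro ⟨hv1, hv⟩
      exact ⟨hv1, fixed_iff.1 hv⟩
    · rintro ⟨hv1, hv⟩
      exact ⟨hv1, fixed_iff.2 hv⟩
  rw [h2, ← Nat.card_coe_set_eq, ← Nat.card_coe_set_eq] at h1
  have h1' : Nat.card ↥L % 7 = Nat.card ↥(L ⊓ Fx c) % 7 := h1
  rw [hL] at h1'
  have h3 : Nat.card ↥(L ⊓ Fx c) ∣ 13 := by rw [← hL]; exact card_dvd_of_le inf_le_left
  rcases (Nat.dvd_prime (by norm_num)).1 h3 with h4 | h4
  · rw [h4] at h1'
    norm_num at h1'
  · have h5 : L ⊓ Fx c = L := Subgroup.eq_of_le_of_card_ge inf_le_left (by rw [h4, hL])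
    have h6 : L ⊓ Fx c = Fx c := Subgroup.eq_of_le_of_card_ge inf_le_right (by rw [h4, h.card_Fx hc])
    rw [← h5, h6]

theorem smul_Fx (c : MulAut V) : c • Fx c = Fx c := by
  refine Subgroup.eq_of_le_of_card_ge ?_ (le_of_eq ?_)
  · rintro _ ⟨v, hv, rfl⟩
    have hv' : c v = v := hv
    show c v ∈ Fx c
    rw [hv']
    exact hv
  · exact (Subgroup.card_map_of_injective (c : MulAut V).injective).symm

theorem orbit_inv {K : Subgroup (MulAut V)} (hK : K ≤ H) {L : Subgroup V} (g : ↥K) :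
    ∀ A ∈ MulAction.orbit ↥H L, g • A ∈ MulAction.orbit ↥H L := by
  rintro _ ⟨k, rfl⟩
  refine ⟨⟨g, hK g.2⟩ * k, ?_⟩
  show ((⟨g, hK g.2⟩ : ↥H) * k) • L = (g : MulAut V) • (k • L)
  rw [mul_smul]
  rfl

/-- **The contradiction.** -/
theorem Cfg.false_of (h : Cfg H x z) (hWH : W ≤ H) (hW : Nat.card ↥W = 32)
    (hWx : ∀ w ∈ W, w x ∈ zpowers x) (hbad : ∃ a : V, a ≠ 1 ∧ ∀ g ∈ H, a ∉ zpowers (g x)) : False := by
  have h7 : Fact (Nat.Prime 7) := ⟨by norm_num⟩
  obtain ⟨m7, m2⟩ := h.seven hWH hW hbad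
  have hmH := card_orbit_mul (Γ := ↥H) (zpowers x)
  -- an element of order 7
  obtain ⟨c', hc'⟩ := exists_prime_orderOf_dvd_card' 7 ((m7.mul_right _).trans hmH.dvd)
  obtain ⟨c, hcc⟩ : ∃ c : MulAut V, c = c' := ⟨_, rfl⟩
  have hcH : c ∈ H := hcc ▸ c'.2
  have hc : orderOf c = 7 := by rw [hcc, Subgroup.orderOf_coe, hc']
  have hcle : zpowers c ≤ H := zpowers_le.2 hcH
  -- the line `F`
  have hF := h.card_Fx hc
  -- `F` is not conjugate to `⟨x⟩`
  have hFX : Fx c ∉ MulAction.orbit ↥H (zpowers x) := by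
    intro hmem
    have h1 := ncard_modEq (Γ := ↥(zpowers c)) (pg7 hc) (MulAction.orbit ↥H (zpowers x)) (fun g => orbit_inv hcle g)
    have h2 : {a : Subgroup V | a ∈ MulAction.orbit ↥H (zpowers x) ∧ ∀ g : ↥(zpowers c), g • a = a} = {Fx c} := by
      ext L
      constructor
      · rintro ⟨hL, hfix⟩
        exact h.inv_line hc (orbit_line (card_zp h.ex h.x1) hL) (fixed_iff.1 hfix)
      · rintro rfl
        exact ⟨hmem, fixed_iff.2 (smul_Fx c)⟩
    rw [h2, Set.ncard_singleton] at h1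
    have h3 : (MulAction.orbit ↥H (zpowers x)).ncard % 7 = 1 % 7 := h1
    omega
  have hOF : ∀ L ∈ MulAction.orbit ↥H (Fx c), L ∉ MulAction.orbit ↥H (zpowers x) := by
    intro L hL hLX
    apply hFX
    rw [← MulAction.orbit_eq_iff] at hL hLX
    rw [← MulAction.orbit_eq_iff, ← hL, hLX]
  have hs7 : (MulAction.orbit ↥H (Fx c)).ncard % 7 = 1 := by
    have h1 := ncard_modEq (Γ := ↥(zpowers c)) (pg7 hc) (MulAction.orbit ↥H (Fx c)) (fun g => orbit_inv hcle g)
    have h2 : {a : Subgroup V | a ∈ MulAction.orbit ↥H (Fx c) ∧ ∀ g : ↥(zpowers c), g • a = a} = {Fx c} := by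
      ext L
      constructor
      · rintro ⟨hL, hfix⟩
        exact h.inv_line hc (orbit_line hF hL) (fixed_iff.1 hfix)
      · rintro rfl
        exact ⟨MulAction.mem_orbit_self _, fixed_iff.2 (smul_Fx c)⟩
    rw [h2, Set.ncard_singleton] at h1
    exact h1
  have hs8 : 8 ∣ (MulAction.orbit ↥H (Fx c)).ncard :=
    dvd_ncard_of_stab (Γ := ↥W) (n := 8) (k := 4) (by rw [hW]) _ (fun g => orbit_inv hWH g)
      (fun L hL => h.bad_stab hWH hW (orbit_line hF hL) (hOF L hL))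
  have hm1 : 1 ≤ (MulAction.orbit ↥H (zpowers x)).ncard := by
    rw [Nat.one_le_iff_ne_zero]
    intro h0
    rw [h0] at m2
    exact m2 (dvd_zero 2)
  have hsle : (MulAction.orbit ↥H (Fx c)).ncard + (MulAction.orbit ↥H (zpowers x)).ncard ≤ 183 := by
    rw [← Set.ncard_union_eq (Set.disjoint_left.2 hOF) (Set.toFinite _) (Set.toFinite _), ← card_lines h.ex h.card]
    refine Set.ncard_le_ncard ?_ (Set.toFinite _)
    rintro L (hL | hL)
    · exact orbit_line hF hL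
    · exact orbit_line (card_zp h.ex h.x1) hL
  have hsH := card_orbit_mul (Γ := ↥H) (Fx c)
  have h64 : ¬ 64 ∣ Nat.card ↥H := by
    intro hd
    rw [← hmH] at hd
    refine h.not_64 (Nat.Coprime.dvd_of_dvd_mul_left ?_ hd)
    exact Nat.Coprime.pow_left 6 ((Nat.Prime.coprime_iff_not_dvd Nat.prime_two).2 m2)
  have hs : (MulAction.orbit ↥H (Fx c)).ncard = 8 := by
    refine arith_eight _ (by (clear * - hs8 hsle; omega)) ?_ hs8 hs7 ?_
    · exact (Dvd.intro _ hsH).trans h.dvd_card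
    · intro hd
      exact h64 (hd.trans (Dvd.intro _ hsH))
  -- `W` is transitive on the 8 lines
  have hWF := card_orbit_mul (Γ := ↥W) (Fx c)
  have hst := h.bad_stab hWH hW hF hFX
  have hsub : MulAction.orbit ↥W (Fx c) ⊆ MulAction.orbit ↥H (Fx c) := by
    rintro _ ⟨w, rfl⟩
    exact ⟨⟨w, hWH w.2⟩, rfl⟩
  have hle8 := Set.ncard_le_ncard hsub (Set.toFinite _)
  rw [hs] at hle8
  have hst4 := Nat.le_of_dvd (by norm_num) hst
  have hst' : Nat.card ↥(MulAction.stabilizer ↥W (Fx c)) = 4 := by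
    rw [hW] at hWF
    nlinarith only [hWF, hle8, hst4]
  have horb : MulAction.orbit ↥W (Fx c) = MulAction.orbit ↥H (Fx c) := by
    refine Set.eq_of_subset_of_ncard_le hsub ?_ (Set.toFinite _)
    rw [hs]
    rw [hst', hW] at hWF
    omega
  -- an involution of `W` normalising `F`
  obtain ⟨u, hu⟩ : ∃ u : ↥(MulAction.stabilizer ↥W (Fx c)), orderOf u = 2 := by
    have h2 : Fact (Nat.Prime 2) := ⟨Nat.prime_two⟩
    exact exists_prime_orderOf_dvd_card' 2 (by rw [hst']; norm_num)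
  have huo : orderOf ((u : ↥W) : MulAut V) = 2 := by rw [Subgroup.orderOf_coe, Subgroup.orderOf_coe, hu]
  obtain ⟨huu, hu1⟩ := sq_one huo
  obtain ⟨g, hg, hug⟩ := h.exists_conj (hWH (u : ↥W).2) huu hu1
  have huF : ((u : ↥W) : MulAut V) • Fx c = Fx c := u.2
  -- `z` fixes all the lines
  have hzF : z • (g⁻¹ • Fx c) = g⁻¹ • Fx c := by
    rw [hug] at huF
    have h1 : g⁻¹ • ((g * z * g⁻¹) • Fx c) = g⁻¹ • Fx c := by rw [huF]
    rw [← mul_smul] at h1
    rw [← mul_smul, ← h1]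
    congr 1
    group
  have hzc : ∀ w ∈ W, w * z = z * w := by
    intro w hw
    have h1 : w • zpowers x = zpowers x := by
      rw [smul_zpowers]
      have h2 : w x ≠ 1 := fun h5 => h.x1 ((MulEquiv.map_eq_one_iff w).1 h5)
      exact (line_eq (card_zp h.ex h.x1) (hWx w hw) h2).symm
    exact mul_inv_eq_iff_eq_mul.1 (h.stab (hWH hw) h1)
  have hall : ∀ L ∈ MulAction.orbit ↥H (Fx c), z • L = L := by
    intro L hL
    have h1 : g⁻¹ • Fx c ∈ MulAction.orbit ↥H (Fx c) := ⟨⟨g⁻¹, inv_mem hg⟩, rfl⟩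
    rw [← horb] at h1 hL
    obtain ⟨w1, hw1⟩ := h1
    obtain ⟨w2, hw2⟩ := hL
    have e1 : (w1 : MulAut V) • Fx c = g⁻¹ • Fx c := hw1
    have e2 : (w2 : MulAut V) • Fx c = L := hw2
    have e3 : L = ((w2 : MulAut V) * (w1 : MulAut V)⁻¹) • (g⁻¹ • Fx c) := by
      rw [← e1, mul_smul, inv_smul_smul, e2]
    have e4 : ((w2 : MulAut V) * (w1 : MulAut V)⁻¹) * z = z * ((w2 : MulAut V) * (w1 : MulAut V)⁻¹) :=
      hzc _ (mul_mem w2.2 (inv_mem w1.2))
    calc z • L = z • (((w2 : MulAut V) * (w1 : MulAut V)⁻¹) • (g⁻¹ • Fx c)) := by rw [← e3]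
      _ = (((w2 : MulAut V) * (w1 : MulAut V)⁻¹) * z) • (g⁻¹ • Fx c) := by rw [e4]; exact (mul_smul z _ _).symm
      _ = ((w2 : MulAut V) * (w1 : MulAut V)⁻¹) • (g⁻¹ • Fx c) := by rw [mul_smul, hzF]
      _ = L := e3.symm
  -- `z` inverts all the lines
  have hinvL : ∀ L ∈ MulAction.orbit ↥H (Fx c), L ≤ h.U := by
    intro L hL v hv
    rw [h.mem_U]
    have hcardL : Nat.card ↥L = 13 := orbit_line hF hL
    have h1 : z v ∈ L := by
      have h3 := Subgroup.smul_mem_pointwise_smul v z L hv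
      rw [hall L hL] at h3
      exact h3
    have h2 : v * z v = 1 := by
      by_contra hne
      have h3 : v * z v ∈ zpowers x := h.zf _ (by rw [map_mul, h.zap, h.cm])
      apply hOF L hL
      refine ⟨1, ?_⟩
      show (1 : MulAut V) • zpowers x = L
      rw [one_smul, line_eq hcardL (mul_mem hv h1) hne]
      exact line_eq (card_zp h.ex h.x1) h3 hne
    exact eq_inv_of_mul_eq_one_right h2
  -- `z` is central in `H`
  have hcen : ∀ k ∈ H, k * z * k⁻¹ = z := by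
    intro k hk
    have hz'z : (k * z * k⁻¹) * (k * z * k⁻¹) = 1 := h.conj_sq k
    -- all lines are inverted by the conjugate
    have hinvL' : ∀ L ∈ MulAction.orbit ↥H (Fx c), ∀ v ∈ L, (k * z * k⁻¹) v = v⁻¹ := by
      intro L hL v hv
      have h1 : k⁻¹ • L ∈ MulAction.orbit ↥H (Fx c) := by
        obtain ⟨w, rfl⟩ := hL
        exact ⟨⟨k⁻¹, inv_mem hk⟩ * w, mul_smul _ _ _⟩
      have h2 : k⁻¹ v ∈ k⁻¹ • L := Subgroup.smul_mem_pointwise_smul v k⁻¹ L hv
      have h3 : z (k⁻¹ v) = (k⁻¹ v)⁻¹ := h.mem_U.1 (hinvL _ h1 h2)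
      show k (z (k⁻¹ v)) = v⁻¹
      rw [h3, ← map_inv, ← MulAut.mul_apply, mul_inv_cancel, MulAut.one_apply]
    -- the subgroup inverted by both
    have hUk : h.U ≤ (h.U ⊓ k • h.U) := by
      have h1 : ∃ L ∈ MulAction.orbit ↥H (Fx c), L ≠ Fx c := by
        by_contra hcon
        push Not at hcon
        have h2 : MulAction.orbit ↥H (Fx c) ⊆ {Fx c} := fun L hL => hcon L hL
        have h3 := Set.ncard_le_ncard h2 (Set.toFinite _)
        rw [hs, Set.ncard_singleton] at h3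
        omega
      obtain ⟨L, hL, hLne⟩ := h1
      have hlek : ∀ L ∈ MulAction.orbit ↥H (Fx c), L ≤ h.U ⊓ k • h.U := by
        intro L hL v hv
        refine ⟨hinvL L hL hv, ?_⟩
        have h1 : k⁻¹ • L ∈ MulAction.orbit ↥H (Fx c) := by
          obtain ⟨w, rfl⟩ := hL
          exact ⟨⟨k⁻¹, inv_mem hk⟩ * w, mul_smul _ _ _⟩
        have h2 : k⁻¹ v ∈ k⁻¹ • L := Subgroup.smul_mem_pointwise_smul v k⁻¹ L hv
        refine ⟨k⁻¹ v, hinvL _ h1 h2, ?_⟩
        show k (k⁻¹ v) = v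
        rw [← MulAut.mul_apply, mul_inv_cancel, MulAut.one_apply]
      have hFle := hlek (Fx c) (MulAction.mem_orbit_self _)
      have hcardd : Nat.card ↥(h.U ⊓ k • h.U) ∣ 13 ^ 2 := by
        rw [← h.card_U]
        exact card_dvd_of_le inf_le_left
      obtain ⟨n, hn2, hn⟩ := (Nat.dvd_prime_pow (by norm_num)).1 hcardd
      have hlt : Nat.card ↥(Fx c) < Nat.card ↥(h.U ⊓ k • h.U) := by
        refine lt_of_le_of_ne (Subgroup.card_le_of_le hFle) fun e => hLne ?_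
        have h4 := Subgroup.eq_of_le_of_card_ge hFle e.ge
        have h5 := hlek L hL
        rw [← h4] at h5
        exact Subgroup.eq_of_le_of_card_ge h5 (by rw [hF, orbit_line hF hL])
      rw [hF, hn] at hlt
      have hn2' : n = 2 := by
        by_contra hne
        have : 13 ^ n ≤ 13 ^ 1 := Nat.pow_le_pow_right (by norm_num) (by omega)
        omega
      have h6 : h.U ⊓ k • h.U = h.U := Subgroup.eq_of_le_of_card_ge inf_le_left (by rw [hn, hn2', h.card_U])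
      rw [h6]
    have hUk1 : h.U = k • h.U := by
      refine Subgroup.eq_of_le_of_card_ge (hUk.trans inf_le_right) (le_of_eq ?_)
      exact Subgroup.card_map_of_injective (k : MulAut V).injective
    have hUinv : ∀ v ∈ h.U, (k * z * k⁻¹) v = v⁻¹ := by
      intro v hv
      rw [hUk1] at hv
      obtain ⟨w, hw, rfl⟩ := hv
      show k (z (k⁻¹ (k w))) = (k w)⁻¹
      have hw' : z w = w⁻¹ := hw
      rw [← MulAut.mul_apply _ k⁻¹ k, inv_mul_cancel, MulAut.one_apply, hw', map_inv]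
    have h1 : (k * z * k⁻¹) * z = 1 := by
      refine eq_one_of_triv h.ex (P := h.U) (fun v hv => ?_) (fun v => ?_)
        (h.ord (mul_mem (mul_mem (mul_mem hk h.zH) (inv_mem hk)) h.zH))
      · rw [MulAut.mul_apply, h.mem_U.1 hv, map_inv, hUinv v hv, inv_inv]
      · rw [MulAut.mul_apply]
        have e1 : z v = v * (v⁻¹ * z v) := by group
        have e2 : (k * z * k⁻¹) (v⁻¹ * z v) = (v⁻¹ * z v)⁻¹ := hUinv _ (h.sub_mem_U v)
        have e3 : (k * z * k⁻¹) (z v) = (k * z * k⁻¹) v * (v⁻¹ * z v)⁻¹ := by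
          conv_lhs => rw [e1]
          rw [map_mul, e2]
        rw [e3, ← mul_assoc]
        refine mul_mem ?_ (inv_mem (h.sub_mem_U v))
        -- `v⁻¹ * k z k⁻¹ v ∈ k U`
        rw [hUk1]
        refine ⟨(k⁻¹ v)⁻¹ * z (k⁻¹ v), h.sub_mem_U _, ?_⟩
        show k ((k⁻¹ v)⁻¹ * z (k⁻¹ v)) = v⁻¹ * k (z (k⁻¹ v))
        rw [map_mul, map_inv, ← MulAut.mul_apply _ k k⁻¹, mul_inv_cancel, MulAut.one_apply]
    have h2 := eq_inv_of_mul_eq_one_left h1
    rw [h2]
    exact inv_eq_of_mul_eq_one_left h.zz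
  -- so `⟨x⟩` is normal
  have horbx : MulAction.orbit ↥H (zpowers x) ⊆ {zpowers x} := by
    rintro _ ⟨k, rfl⟩
    show (k : MulAut V) • zpowers x = zpowers x
    rw [smul_zpowers]
    have h1 := hcen k k.2
    have h2 : (k : MulAut V) * z = z * k := mul_inv_eq_iff_eq_mul.1 h1
    have h3 : z ((k : MulAut V) x) = (k : MulAut V) x := by
      rw [← MulAut.mul_apply, ← h2, MulAut.mul_apply, h.zx]
    have h4 : (k : MulAut V) x ≠ 1 := fun h5 => h.x1 ((MulEquiv.map_eq_one_iff (k : MulAut V)).1 h5)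
    exact (line_eq (card_zp h.ex h.x1) (h.zf _ h3) h4).symm
  have h1 := Set.ncard_le_ncard horbx (Set.toFinite _)
  rw [Set.ncard_singleton] at h1
  (clear * - m7 m2 h1; omega)

end cfg3

end Cfsg.Agent.H609.Inv.Thirteen
end

-- part: H609/Inv/MThirC
section
/-!
# S3830: the Monster, `p = 13`: the Sylow subgroups are not abelian
-/

set_option autoImplicit false
set_option maxRecDepth 100000
set_option linter.unusedSectionVars false

namespace Cfsg.Agent.H609.Inv.Thirteen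

open Subgroup Cfsg Cfsg.Agent.H459.Inv
open Cfsg.Agent.H131.T5M13 (D TB zp exists_syl exists_conj_le orderOf_conj' exists_nat_pow mem_normalizer_of)

/-- the inverted elements -/
theorem card_inverted {V : Type*} [Group V] [Finite V] (cm : ∀ a b : V, a * b = b * a) {x : V} {z : MulAut V}
    (card : Nat.card V = 13 ^ 3) (hx : Nat.card ↥(zpowers x) = 13) (zz : z * z = 1) (zx : z x = x)
    (zf : ∀ v, z v = v → v ∈ zpowers x) (U : Subgroup V) (hU : ∀ v, v ∈ U ↔ z v = v⁻¹) : Nat.card ↥U = 13 ^ 2 := by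
  have zap : ∀ v, z (z v) = v := fun v => by rw [← MulAut.mul_apply, zz, MulAut.one_apply]
  let φ : V →* V :=
    { toFun := fun v => v⁻¹ * z v
      map_one' := by simp
      map_mul' := fun a b => by
        rw [map_mul, mul_inv_rev]
        calc b⁻¹ * a⁻¹ * (z a * z b) = b⁻¹ * (a⁻¹ * z a) * z b := by group
          _ = (a⁻¹ * z a) * b⁻¹ * z b := by rw [cm b⁻¹]
          _ = a⁻¹ * z a * (b⁻¹ * z b) := by group }
  have hker : φ.ker = zpowers x := by
    ext v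
    rw [MonoidHom.mem_ker]
    show v⁻¹ * z v = 1 ↔ _
    rw [inv_mul_eq_one]
    constructor
    · intro h1
      exact zf v h1.symm
    · intro h1
      obtain ⟨i, rfl⟩ := mem_zpowers_iff.1 h1
      rw [map_zpow, zx]
  have hrange : φ.range = U := by
    ext v
    rw [hU]
    constructor
    · rintro ⟨w, rfl⟩
      show z (w⁻¹ * z w) = (w⁻¹ * z w)⁻¹
      rw [map_mul, map_inv, zap, mul_inv_rev, inv_inv]
    · intro hv
      refine ⟨v ^ 1098, ?_⟩
      show (v ^ 1098)⁻¹ * z (v ^ 1098) = v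
      rw [map_pow, hv]
      have h1 : v ^ 2197 = 1 := by
        have := pow_card_eq_one' (x := v)
        rwa [card] at this
      calc (v ^ 1098)⁻¹ * v⁻¹ ^ 1098 = (v ^ 2197)⁻¹ * v := by group
        _ = v := by rw [h1]; group
  have h1 := φ.ker.card_mul_index
  rw [Subgroup.index_ker, hker, hrange, card, hx] at h1
  omega

universe u

variable {G : Type u} [Group G] [Finite G] {x z t : G} {Q R W : Subgroup G}

/-- no involution centralises `R` -/
theorem RW.no_cent (h : D x z t Q) (hr : RW x Q R W) {u : G} (hu : orderOf u = 2) (hc : ∀ r ∈ R, u * r = r * u) :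
    False := by
  rcases h.cls u hu with hz | ht
  · obtain ⟨g, rfl⟩ := isConj_iff.1 hz
    apply h.hyp.cz
    have h1 : R.map (MulAut.conj g⁻¹).toMonoidHom ≤ centralizer ({z} : Set G) := by
      rintro _ ⟨r, hrR, rfl⟩
      rw [mem_centralizer_singleton_iff]
      show g⁻¹ * r * g⁻¹⁻¹ * z = z * (g⁻¹ * r * g⁻¹⁻¹)
      calc g⁻¹ * r * g⁻¹⁻¹ * z = g⁻¹ * (r * (g * z * g⁻¹)) * g := by group
        _ = g⁻¹ * ((g * z * g⁻¹) * r) * g := by rw [hc r hrR]
        _ = _ := by group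
    have h2 := Subgroup.card_dvd_of_le h1
    rw [Subgroup.card_map_of_injective (MulAut.conj g⁻¹).injective, hr.card] at h2
    exact (pow_dvd_pow 13 (by norm_num)).trans h2
  · refine h.not_norm ht ?_
    intro c hcx
    have h1 := hc c ((zpowers_le.2 hr.mem) hcx)
    rw [h1, mul_inv_cancel_right]
    exact hcx

/-- elements of `R` commuting with a conjugate of `z` -/
theorem not_sq (h : D x z t Q) {n : G} (hn : IsConj z n) {A : Subgroup G} (hA : 13 ^ 2 ∣ Nat.card ↥A)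
    (hAn : ∀ a ∈ A, n * a = a * n) : False := by
  obtain ⟨g, rfl⟩ := isConj_iff.1 hn
  apply h.hyp.cz
  have h1 : A.map (MulAut.conj g⁻¹).toMonoidHom ≤ centralizer ({z} : Set G) := by
    rintro _ ⟨r, hrR, rfl⟩
    rw [mem_centralizer_singleton_iff]
    show g⁻¹ * r * g⁻¹⁻¹ * z = z * (g⁻¹ * r * g⁻¹⁻¹)
    calc g⁻¹ * r * g⁻¹⁻¹ * z = g⁻¹ * (r * (g * z * g⁻¹)) * g := by group
      _ = g⁻¹ * ((g * z * g⁻¹) * r) * g := by rw [hAn r hrR]
      _ = _ := by group
  have h2 := Subgroup.card_dvd_of_le h1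
  rw [Subgroup.card_map_of_injective (MulAut.conj g⁻¹).injective] at h2
  exact hA.trans h2

/-- `R` is abelian -/
structure Ab (x : G) (Q R W : Subgroup G) : Prop extends RW x Q R W where
  ab : ∀ a ∈ R, ∀ b ∈ R, a * b = b * a

theorem phi_apply (n : ↥(normalizer (R : Set G))) (r : ↥R) :
    ((R.normalizerMonoidHom n r : ↥R) : G) = (n : G) * r * (n : G)⁻¹ := rfl

/-- the inverted elements of `R` -/
def InvU (R : Subgroup G) (hab : ∀ a ∈ R, ∀ b ∈ R, a * b = b * a) (z : G) : Subgroup G where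
  carrier := {r | r ∈ R ∧ z * r * z⁻¹ = r⁻¹}
  one_mem' := ⟨one_mem R, by group⟩
  mul_mem' := by
    rintro a b ⟨ha, ha'⟩ ⟨hb, hb'⟩
    refine ⟨mul_mem ha hb, ?_⟩
    calc z * (a * b) * z⁻¹ = (z * a * z⁻¹) * (z * b * z⁻¹) := by group
      _ = a⁻¹ * b⁻¹ := by rw [ha', hb']
      _ = (a * b)⁻¹ := by rw [mul_inv_rev, hab _ (inv_mem ha) _ (inv_mem hb)]
  inv_mem' := by
    rintro a ⟨ha, ha'⟩
    refine ⟨inv_mem ha, ?_⟩
    calc z * a⁻¹ * z⁻¹ = (z * a * z⁻¹)⁻¹ := by group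
      _ = a⁻¹⁻¹ := by rw [ha']

theorem Ab.card_InvU (h : D x z t Q) (hb : Ab x Q R W) : Nat.card ↥(InvU R hb.ab z) = 13 ^ 2 := by
  have hzN : z ∈ normalizer (R : Set G) := mem_normalizer_of (hb.toRW.zmem h)
  have h1 : Nat.card ↥((InvU R hb.ab z).subgroupOf R) = 13 ^ 2 := by
    refine card_inverted (x := (⟨x, hb.mem⟩ : ↥R)) (z := R.normalizerMonoidHom ⟨z, hzN⟩)
      (fun a b => Subtype.ext (hb.ab a a.2 b b.2)) hb.card ?_ ?_ ?_ ?_ _ ?_
    · rw [Nat.card_zpowers, Subgroup.orderOf_mk, h.hyp.hx]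
    · rw [← map_mul]
      have : (⟨z, hzN⟩ * ⟨z, hzN⟩ : ↥(normalizer (R : Set G))) = 1 := Subtype.ext (zz h)
      rw [this, map_one]
    · apply Subtype.ext
      rw [phi_apply]
      show z * x * z⁻¹ = x
      rw [h.hyp.zx, mul_inv_cancel_right]
    · intro v hv
      have h1 : z * (v : G) * z⁻¹ = v := congrArg Subtype.val hv
      obtain ⟨i, hi⟩ := mem_zpowers_iff.1 (hb.toRW.free h v.2 (mul_inv_eq_iff_eq_mul.1 h1).symm)
      exact mem_zpowers_iff.2 ⟨i, Subtype.ext hi⟩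
    · intro v
      rw [mem_subgroupOf]
      constructor
      · rintro ⟨-, h1⟩
        exact Subtype.ext h1
      · intro h1
        exact ⟨v.2, congrArg Subtype.val h1⟩
  rw [← h1]
  exact (Nat.card_congr (Subgroup.subgroupOfEquivOfLe (fun r (hr : r ∈ InvU R hb.ab z) => hr.1)).toEquiv).symm

/-- `R` is elementary abelian -/
theorem Ab.exp (h : D x z t Q) (hb : Ab x Q R W) : ∀ r ∈ R, r ^ 13 = 1 := by
  have hUc := hb.card_InvU h
  have hp : Fact (Nat.Prime 13) := ⟨by norm_num⟩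
  have hzz := zz h
  have hzi : z⁻¹ = z := inv_eq_of_mul_eq_one_left hzz
  -- the decomposition
  have hplus : ∀ r ∈ R, r * (z * r * z⁻¹) ∈ zpowers x := by
    intro r hr
    have hzr := hb.toRW.zmem h r hr
    refine hb.toRW.free h (mul_mem hr hzr) ?_
    have e : z * (r * (z * r * z⁻¹)) * z⁻¹ = r * (z * r * z⁻¹) := by
      calc z * (r * (z * r * z⁻¹)) * z⁻¹ = (z * r * z⁻¹) * ((z * z) * r * (z * z)⁻¹) := by group
        _ = (z * r * z⁻¹) * r := by rw [hzz]; group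
        _ = _ := hb.ab _ hzr _ hr
    exact (mul_inv_eq_iff_eq_mul.1 e).symm
  have hminus : ∀ r ∈ R, r⁻¹ * (z * r * z⁻¹) ∈ InvU R hb.ab z := by
    intro r hr
    have hzr := hb.toRW.zmem h r hr
    refine ⟨mul_mem (inv_mem hr) hzr, ?_⟩
    calc z * (r⁻¹ * (z * r * z⁻¹)) * z⁻¹ = (z * r * z⁻¹)⁻¹ * ((z * z) * r * (z * z)⁻¹) := by group
      _ = (z * r * z⁻¹)⁻¹ * r := by rw [hzz]; group
      _ = (r⁻¹ * (z * r * z⁻¹))⁻¹ := by group
  -- squares
  have hsq : ∀ r ∈ R, r ^ 2 = (r * (z * r * z⁻¹)) * (r⁻¹ * (z * r * z⁻¹))⁻¹ := by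
    intro r hr
    rw [mul_inv_rev, inv_inv, pow_two]
    group
  have hxU : x ^ 13 = 1 := by rw [← h.hyp.hx, pow_orderOf_eq_one]
  have hcardR : ∀ r ∈ R, r ^ 2197 = 1 := by
    intro r hr
    have h1 := pow_card_eq_one' (x := (⟨r, hr⟩ : ↥R))
    rw [hb.card] at h1
    have h2 := congrArg Subtype.val h1
    rw [SubmonoidClass.coe_pow] at h2
    exact h2
  by_cases hex : ∀ v ∈ InvU R hb.ab z, v ^ 13 = 1
  · intro r hr
    obtain ⟨i, hi⟩ := mem_zpowers_iff.1 (hplus r hr)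
    have h1 := hex _ (hminus r hr)
    have h2 : (r ^ 2) ^ 13 = 1 := by
      rw [hsq r hr]
      have hc : Commute (r * (z * r * z⁻¹)) (r⁻¹ * (z * r * z⁻¹))⁻¹ :=
        hb.ab _ (mul_mem hr (hb.toRW.zmem h r hr)) _ (inv_mem (hminus r hr).1)
      rw [hc.mul_pow, inv_pow, h1, ← hi, ← zpow_natCast, ← zpow_mul, mul_comm, zpow_mul, zpow_natCast, hxU, one_zpow]
      group
    -- `r ^ 13 = (r ^ 26) ^ 1099 ...`
    have h3 : r ^ 2197 = 1 := hcardR r hr
    calc r ^ 13 = ((r ^ 2) ^ 13) ^ 85 * (r ^ 2197)⁻¹ := by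
          rw [← pow_mul, ← pow_mul]
          have : r ^ (2 * 13 * 85) = r ^ 13 * r ^ 2197 := by rw [← pow_add]
          rw [this, mul_inv_cancel_right]
      _ = 1 := by rw [h2, h3, one_pow, inv_one, mul_one]
  · exfalso
    push Not at hex
    obtain ⟨v, hvU, hv⟩ := hex
    have hvo : orderOf v = 13 ^ 2 := by
      have h1 := _root_.orderOf_dvd_natCard (⟨v, hvU⟩ : ↥(InvU R hb.ab z))
      rw [Subgroup.orderOf_mk, hUc] at h1
      obtain ⟨k, hk2, hk⟩ := (Nat.dvd_prime_pow hp.out).1 h1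
      have hk2' : k = 2 := by
        by_contra hne
        apply hv
        rw [← orderOf_dvd_iff_pow_eq_one, hk]
        exact (pow_dvd_pow 13 (show k ≤ 1 by omega)).trans (by norm_num)
      rw [hk, hk2']
    have hUv : InvU R hb.ab z = zpowers v :=
      (Subgroup.eq_of_le_of_card_ge (zpowers_le.2 hvU) (by rw [hUc, Nat.card_zpowers, hvo])).symm
    have hqU : ∀ q ∈ Q, q * v * q⁻¹ ∈ zpowers v := by
      intro q hq
      rw [← hUv]
      refine ⟨hb.qr q hq v hvU.1, ?_⟩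
      have hqz : q * z = z * q := h.hyp.qz q hq
      have e : z * (q * v * q⁻¹) * z⁻¹ = q * (z * v * z⁻¹) * q⁻¹ := by
        calc z * (q * v * q⁻¹) * z⁻¹ = (z * q) * v * (z * q)⁻¹ := by group
          _ = (q * z) * v * (q * z)⁻¹ := by rw [hqz]
          _ = _ := by group
      rw [e, hvU.2]
      group
    obtain ⟨k, hk, l, hl, hkl⟩ := h.hyp.nc
    obtain ⟨i, hi⟩ := mem_zpowers_iff.1 (hqU k hk)
    obtain ⟨j, hj⟩ := mem_zpowers_iff.1 (hqU l hl)
    have e1 : (k * l) * v * (k * l)⁻¹ = (l * k) * v * (l * k)⁻¹ := by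
      calc (k * l) * v * (k * l)⁻¹ = k * (l * v * l⁻¹) * k⁻¹ := by group
        _ = (k * v * k⁻¹) ^ j := by rw [← hj, conj_zpow]
        _ = (v ^ j) ^ i := by rw [← hi, ← zpow_mul, ← zpow_mul, mul_comm]
        _ = (l * v * l⁻¹) ^ i := by rw [hj]
        _ = l * (v ^ i) * l⁻¹ := by rw [conj_zpow]
        _ = l * (k * v * k⁻¹) * l⁻¹ := by rw [hi]
        _ = _ := by group
    obtain ⟨w, hw⟩ : ∃ w, w = k * l * k⁻¹ * l⁻¹ := ⟨_, rfl⟩
    have hwv : w * v = v * w := by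
      rw [← mul_inv_eq_iff_eq_mul]
      have hlk : v = (l * k)⁻¹ * ((k * l) * v * (k * l)⁻¹) * (l * k) := by rw [e1]; group
      have hwlk : w = (k * l) * (l * k)⁻¹ := by rw [hw]; group
      -- `w u w⁻¹ = u` for `u = (k l) v' ...`
      have hv2 : ∀ s ∈ zpowers v, (k * l) * s * (k * l)⁻¹ = (l * k) * s * (l * k)⁻¹ := by
        intro s hs
        obtain ⟨n, rfl⟩ := mem_zpowers_iff.1 hs
        rw [← conj_zpow, e1, conj_zpow]
      have hinv : (l * k)⁻¹ * v * (l * k)⁻¹⁻¹ ∈ zpowers v := hqU _ (Q.inv_mem (mul_mem hl hk))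
      have h3 := hv2 _ hinv
      calc w * v * w⁻¹ = (k * l) * ((l * k)⁻¹ * v * (l * k)⁻¹⁻¹) * (k * l)⁻¹ := by rw [hwlk]; group
        _ = (l * k) * ((l * k)⁻¹ * v * (l * k)⁻¹⁻¹) * (l * k)⁻¹ := h3
        _ = v := by group
    have hwQ : w ∈ Q := hw ▸ mul_mem (mul_mem (mul_mem hk hl) (inv_mem hk)) (inv_mem hl)
    refine hb.no k hk l hl hkl ?_
    rw [← hw]
    intro r hr
    have hwx : Commute w x := h.hyp.qx w hwQ
    have hwr2 : Commute w (r ^ 2) := by
      rw [hsq r hr]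
      obtain ⟨i, hi⟩ := mem_zpowers_iff.1 (hplus r hr)
      have h5 := hminus r hr
      rw [hUv] at h5
      obtain ⟨j, hj⟩ := mem_zpowers_iff.1 h5
      rw [← hi, ← hj]
      exact (hwx.zpow_right i).mul_right (((show Commute w v from hwv).zpow_right j).inv_right)
    have hwr : Commute w r := by
      have h6 : r = (r ^ 2) ^ 1099 * (r ^ 2197)⁻¹ := by
        rw [← pow_mul]
        have : r ^ (2 * 1099) = r * r ^ 2197 := by rw [← pow_succ']
        rw [this, mul_inv_cancel_right]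
      rw [h6, hcardR r hr, inv_one, mul_one]
      exact hwr2.pow_right 1099
    rw [hwr.eq, mul_inv_cancel_right]

/-- the automorphisms induced by `N(R)` -/
abbrev phi (R : Subgroup G) : ↥(normalizer (R : Set G)) →* MulAut ↥R := R.normalizerMonoidHom

theorem phi_eq_one {n : ↥(normalizer (R : Set G))} (hn : phi R n = 1) : ∀ r ∈ R, (n : G) * r = r * n := by
  intro r hr
  have h1 : phi R n ⟨r, hr⟩ = ⟨r, hr⟩ := by rw [hn, MulAut.one_apply]
  have h2 : (n : G) * r * (n : G)⁻¹ = r := congrArg Subtype.val h1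
  exact mul_inv_eq_iff_eq_mul.1 h2

theorem conj_mem_R (n : ↥(normalizer (R : Set G))) {r : G} (hr : r ∈ R) : (n : G) * r * (n : G)⁻¹ ∈ R :=
  (mem_normalizer_iff.1 n.2 r).1 hr

/-- involutions of the automorphism group lift -/
theorem Ab.lift (h : D x z t Q) (hb : Ab x Q R W) {u : MulAut ↥R} (hu : u ∈ (phi R).range) (huu : u * u = 1)
    (hu1 : u ≠ 1) : ∃ n : ↥(normalizer (R : Set G)), orderOf (n : G) = 2 ∧ phi R n = u ∧ IsConj z (n : G) := by
  have h2 : Fact (Nat.Prime 2) := ⟨Nat.prime_two⟩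
  have hp : Fact (Nat.Prime 13) := ⟨by norm_num⟩
  obtain ⟨n0, hn0⟩ := hu
  obtain ⟨a, b, hbo, hab⟩ := Nat.exists_eq_two_pow_mul_odd (n := orderOf n0) (orderOf_pos n0).ne'
  obtain ⟨n, hn⟩ : ∃ n, n = n0 ^ b := ⟨_, rfl⟩
  have hphi : phi R n = u := by
    obtain ⟨c, hc⟩ := hbo
    rw [hn, map_pow, hn0, hc, pow_succ, pow_mul, pow_two, huu, one_pow, one_mul]
  have hn2a : n ^ 2 ^ a = 1 := by
    rw [hn, ← pow_mul, mul_comm, ← hab, pow_orderOf_eq_one]
  have hsq : n ^ 2 = 1 := by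
    by_contra hne
    have hd : orderOf (n ^ 2) ∣ 2 ^ a := by
      apply orderOf_dvd_of_pow_eq_one
      rw [← pow_mul, mul_comm, pow_mul, hn2a, one_pow]
    obtain ⟨m, hm⟩ := exists_invol_of_dvd hd hne
    refine hb.toRW.no_cent h (u := (((n ^ 2) ^ m : ↥(normalizer (R : Set G))) : G)) ?_ (phi_eq_one ?_)
    · rw [Subgroup.orderOf_coe, hm]
    · rw [map_pow, map_pow, hphi, pow_two, huu, one_pow]
  have hn1 : n ≠ 1 := by
    rintro rfl
    rw [map_one] at hphi
    exact hu1 hphi.symm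
  have hno : orderOf (n : G) = 2 := by
    rw [Subgroup.orderOf_coe]
    exact orderOf_eq_prime hsq hn1
  refine ⟨n, hno, hphi, ?_⟩
  rcases h.cls _ hno with hz | ht
  · exact hz
  · exfalso
    -- an inverted element
    have hex : ∃ r ∈ R, (n : G) * r * (n : G)⁻¹ ≠ r := by
      by_contra hcon
      push Not at hcon
      apply hu1
      rw [← hphi]
      apply MulEquiv.ext
      intro r
      exact Subtype.ext (hcon r r.2)
    obtain ⟨r, hr, hne⟩ := hex
    have hnn : (n : G) * n = 1 := (sq_one hno).1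
    have hni : (n : G)⁻¹ = n := inv_eq_of_mul_eq_one_left hnn
    obtain ⟨v, hv⟩ : ∃ v, v = r⁻¹ * ((n : G) * r * (n : G)⁻¹) := ⟨_, rfl⟩
    have hvR : v ∈ R := hv ▸ mul_mem (inv_mem hr) (conj_mem_R n hr)
    have hv1 : v ≠ 1 := by
      intro h1
      rw [hv, inv_mul_eq_one] at h1
      exact hne h1.symm
    have hvi : (n : G) * v * (n : G)⁻¹ = v⁻¹ := by
      rw [hv]
      calc (n : G) * (r⁻¹ * ((n : G) * r * (n : G)⁻¹)) * (n : G)⁻¹ =
          ((n : G) * r * (n : G)⁻¹)⁻¹ * (((n : G) * n) * r * ((n : G) * n)⁻¹) := by group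
        _ = ((n : G) * r * (n : G)⁻¹)⁻¹ * r := by rw [hnn]; group
        _ = _ := by group
    have hv13 : v ^ 13 = 1 := hb.exp h v hvR
    have hvo : orderOf v = 13 := orderOf_eq_prime hv13 hv1
    have h7 : (n : G) * v ^ 7 * (n : G)⁻¹ = (v ^ 7)⁻¹ := by rw [← conj_pow, hvi, inv_pow]
    have h8 : (v ^ 7)⁻¹ * n * v ^ 7 = n * v := by
      have e1 : (v ^ 7)⁻¹ * n = n * v ^ 7 := by
        rw [← h7]
        group
      calc (v ^ 7)⁻¹ * n * v ^ 7 = n * v ^ 7 * v ^ 7 := by rw [e1]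
        _ = n * (v ^ 13 * v) := by rw [mul_assoc, ← pow_add, ← pow_succ]
        _ = n * v := by rw [hv13, one_mul]
    have h9 : IsConj (n : G) (n * v) := isConj_iff.2 ⟨(v ^ 7)⁻¹, by rw [inv_inv]; exact h8⟩
    apply h.six n (n * v) ht (ht.trans h9)
    rw [← mul_assoc, hnn, one_mul, hvo]

/-- fusion in `N(R)` -/
theorem Ab.fus (h : D x z t Q) (hb : Ab x Q R W) {y y' g : G} (hy : y ∈ R) (hy' : y' ∈ R) (hg : g * y * g⁻¹ = y') :
    ∃ n : ↥(normalizer (R : Set G)), (n : G) * y * (n : G)⁻¹ = y' := by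
  have hp : Fact (Nat.Prime 13) := ⟨by norm_num⟩
  obtain ⟨S, hS⟩ := exists_syl hb.card h.hyp.h4
  have hyS : y ∈ S := by
    show y ∈ (S : Subgroup G)
    rw [hS]; exact hy
  have hyS' : g⁻¹⁻¹ * y * g⁻¹ ∈ S := by
    show g⁻¹⁻¹ * y * g⁻¹ ∈ (S : Subgroup G)
    rw [hS, inv_inv, hg]; exact hy'
  have hcom : IsMulCommutative ↥(S : Subgroup G) := by
    rw [hS]
    exact ⟨⟨fun a b => Subtype.ext (hb.ab a a.2 b b.2)⟩⟩
  obtain ⟨n, hn, he⟩ := Sylow.conj_eq_normalizer_conj_of_mem S y g⁻¹ hyS hyS'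
  have hn' : n⁻¹ ∈ normalizer (R : Set G) := by
    have h1 : n ∈ normalizer (R : Set G) := by
      rw [← hS]
      exact hn
    exact inv_mem h1
  refine ⟨⟨n⁻¹, hn'⟩, ?_⟩
  show n⁻¹ * y * n⁻¹⁻¹ = y'
  rw [inv_inv, ← he, inv_inv, hg]

/-- the fixed points of an involution -/
theorem Ab.fix (h : D x z t Q) (hb : Ab x Q R W) {n : ↥(normalizer (R : Set G))} (hno : orderOf (n : G) = 2)
    (hnz : IsConj z (n : G)) : ∃ g : ↥(normalizer (R : Set G)),
      (n : G) * (g * x * (g : G)⁻¹) = (g * x * (g : G)⁻¹) * n ∧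
      ∀ r ∈ R, (n : G) * r = r * n → r ∈ zpowers (g * x * (g : G)⁻¹) := by
  have hp : Fact (Nat.Prime 13) := ⟨by norm_num⟩
  have hnn : (n : G) * n = 1 := (sq_one hno).1
  have hd : Nat.card ↥(R ⊓ centralizer ({(n : G)} : Set G)) ∣ 13 ^ 3 := by
    rw [← hb.card]; exact card_dvd_of_le inf_le_left
  obtain ⟨k, hk3, hk⟩ := (Nat.dvd_prime_pow hp.out).1 hd
  have hk1 : k ≤ 1 := by
    by_contra hlt
    refine not_sq h hnz (A := R ⊓ centralizer ({(n : G)} : Set G)) (by rw [hk]; exact pow_dvd_pow 13 (by omega)) ?_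
    intro a ha
    exact (mem_centralizer_singleton_iff.1 (mem_inf.1 ha).2).symm
  rcases (show k = 0 ∨ k = 1 by omega) with rfl | rfl
  · exfalso
    rw [pow_zero, Subgroup.card_eq_one] at hk
    -- `n` inverts `R`
    have hinv : ∀ r ∈ R, (n : G) * r * (n : G)⁻¹ = r⁻¹ := by
      intro r hr
      have hnr := conj_mem_R n hr
      have e : (n : G) * (r * ((n : G) * r * (n : G)⁻¹)) * (n : G)⁻¹ = r * ((n : G) * r * (n : G)⁻¹) := by
        calc (n : G) * (r * ((n : G) * r * (n : G)⁻¹)) * (n : G)⁻¹ =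
            ((n : G) * r * (n : G)⁻¹) * (((n : G) * n) * r * ((n : G) * n)⁻¹) := by group
          _ = ((n : G) * r * (n : G)⁻¹) * r := by rw [hnn]; group
          _ = _ := hb.ab _ hnr _ hr
      have h1 : r * ((n : G) * r * (n : G)⁻¹) ∈ R ⊓ centralizer ({(n : G)} : Set G) :=
        mem_inf.2 ⟨mul_mem hr hnr, mem_centralizer_singleton_iff.2 (mul_inv_eq_iff_eq_mul.1 e).symm⟩
      rw [hk, mem_bot] at h1
      exact eq_inv_of_mul_eq_one_right h1
    -- the product with `z`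
    have hzN : z ∈ normalizer (R : Set G) := mem_normalizer_of (hb.toRW.zmem h)
    have hact : ∀ r : ↥R, ((phi R (n * ⟨z, hzN⟩) r : ↥R) : G) = (z * r * z⁻¹)⁻¹ := by
      intro r
      have e1 : ((phi R (n * ⟨z, hzN⟩) r : ↥R) : G) = (n : G) * z * r * ((n : G) * z)⁻¹ := rfl
      rw [e1]
      calc (n : G) * z * r * ((n : G) * z)⁻¹ = (n : G) * (z * r * z⁻¹) * (n : G)⁻¹ := by group
        _ = _ := hinv _ (hb.toRW.zmem h r r.2)
    have huu : phi R (n * ⟨z, hzN⟩) * phi R (n * ⟨z, hzN⟩) = 1 := by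
      apply MulEquiv.ext
      intro r
      apply Subtype.ext
      rw [MulAut.mul_apply, hact, hact, MulAut.one_apply]
      calc (z * (z * (r : G) * z⁻¹)⁻¹ * z⁻¹)⁻¹ = (z * z) * r * (z * z)⁻¹ := by
            simp only [mul_inv_rev, inv_inv, mul_assoc]
        _ = r := by rw [zz h]; group
    have hu1 : phi R (n * ⟨z, hzN⟩) ≠ 1 := by
      intro h1
      have h2 := hact ⟨x, hb.mem⟩
      rw [h1, MulAut.one_apply] at h2
      have h3 : x = (z * x * z⁻¹)⁻¹ := h2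
      rw [h.hyp.zx, mul_inv_cancel_right] at h3
      have h4 : x ^ 2 = 1 := by
        rw [pow_two]
        nth_rewrite 1 [h3]
        rw [inv_mul_cancel]
      have h5 := orderOf_dvd_of_pow_eq_one h4
      rw [h.hyp.hx] at h5
      norm_num at h5
    obtain ⟨m, hmo, hm, hmz⟩ := hb.lift h ⟨_, rfl⟩ huu hu1
    refine not_sq h hmz (A := InvU R hb.ab z) (by rw [hb.card_InvU h]) ?_
    rintro a ⟨haR, ha⟩
    have h1 : ((phi R m ⟨a, haR⟩ : ↥R) : G) = a := by
      rw [hm, hact, ha, inv_inv]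
    have h2 : (m : G) * a * (m : G)⁻¹ = a := h1
    exact mul_inv_eq_iff_eq_mul.1 h2
  · rw [pow_one] at hk
    have hnt : ∃ y ∈ R ⊓ centralizer ({(n : G)} : Set G), y ≠ 1 := by
      by_contra hcon
      push Not at hcon
      have : R ⊓ centralizer ({(n : G)} : Set G) = ⊥ := (Subgroup.eq_bot_iff_forall _).2 hcon
      rw [this, Subgroup.card_bot] at hk
      omega
    obtain ⟨y, hyC, hy1⟩ := hnt
    have hyR := (mem_inf.1 hyC).1
    have hyn : y * (n : G) = n * y := mem_centralizer_singleton_iff.1 (mem_inf.1 hyC).2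
    have hTB : TB z y := by
      obtain ⟨g, hg⟩ := isConj_iff.1 hnz
      exact ⟨g, by rw [hg]; exact hyn⟩
    have hyo := hb.toRW.ord_of_tb h hyR hy1 hTB
    have hCy : R ⊓ centralizer ({(n : G)} : Set G) = zpowers y :=
      (Subgroup.eq_of_le_of_card_ge (zpowers_le.2 hyC) (by rw [hk, Nat.card_zpowers, hyo])).symm
    obtain ⟨j, hj⟩ := h.tb_pow hyo hTB
    obtain ⟨g, hg⟩ := isConj_iff.1 hj
    obtain ⟨m, hm⟩ := hb.fus h hyR (pow_mem hb.mem j) hg
    -- `y = (m⁻¹ x m) ^ j`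
    have hy2 : y = ((m⁻¹ : ↥(normalizer (R : Set G))) * x * ((m⁻¹ : ↥(normalizer (R : Set G))) : G)⁻¹) ^ j := by
      rw [conj_pow, ← hm]
      push_cast
      group
    have hxo : orderOf (((m⁻¹ : ↥(normalizer (R : Set G))) : G) * x * ((m⁻¹ : ↥(normalizer (R : Set G))) : G)⁻¹) =
        13 := by rw [orderOf_conj', h.hyp.hx]
    have hzp : zpowers y =
        zpowers (((m⁻¹ : ↥(normalizer (R : Set G))) : G) * x * ((m⁻¹ : ↥(normalizer (R : Set G))) : G)⁻¹) := by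
      refine Subgroup.eq_of_le_of_card_ge (zpowers_le.2 ?_) (by rw [Nat.card_zpowers, Nat.card_zpowers, hxo, hyo])
      rw [hy2]
      exact pow_mem (mem_zpowers _) j
    refine ⟨m⁻¹, ?_, ?_⟩
    · have h1 : (((m⁻¹ : ↥(normalizer (R : Set G))) : G) * x * ((m⁻¹ : ↥(normalizer (R : Set G))) : G)⁻¹) ∈
          R ⊓ centralizer ({(n : G)} : Set G) := by
        rw [hCy, hzp]
        exact mem_zpowers _
      exact (mem_centralizer_singleton_iff.1 (mem_inf.1 h1).2).symm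
    · intro r hr hrn
      rw [← hzp, ← hCy]
      exact mem_inf.2 ⟨hr, mem_centralizer_singleton_iff.2 hrn.symm⟩

/-- **The Sylow subgroups are not abelian.** -/
theorem Ab.false (h : D x z t Q) (hb : Ab x Q R W) : False := by
  have hp : Fact (Nat.Prime 13) := ⟨by norm_num⟩
  have hzN : z ∈ normalizer (R : Set G) := mem_normalizer_of (hb.toRW.zmem h)
  have hx1 : x ≠ 1 := by
    rintro rfl
    have h1 := h.hyp.hx
    rw [orderOf_one] at h1
    exact absurd h1 (by norm_num)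
  have hC : Cfg (phi R).range (⟨x, hb.mem⟩ : ↥R) (phi R ⟨z, hzN⟩) := by
    refine ⟨fun a b => Subtype.ext (hb.ab a a.2 b b.2), fun v => Subtype.ext (hb.exp h v v.2), hb.card, ?_,
      fun h1 => hx1 (congrArg Subtype.val h1), ⟨_, rfl⟩, ?_, ?_, ?_, ?_⟩
    · -- `13` does not divide the order
      intro hd
      apply h.hyp.h4
      have h1 : Nat.card ↥(phi R).range * Nat.card ↥(phi R).ker = Nat.card ↥(normalizer (R : Set G)) := by
        rw [← Subgroup.index_ker, mul_comm]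
        exact Subgroup.card_mul_index _
      have h2 : 13 ^ 3 ∣ Nat.card ↥(phi R).ker := by
        have h3 : R.subgroupOf (normalizer (R : Set G)) ≤ (phi R).ker := by
          intro n hn
          rw [MonoidHom.mem_ker]
          apply MulEquiv.ext
          intro r
          apply Subtype.ext
          show (n : G) * r * (n : G)⁻¹ = r
          have e : (n : G) * r = r * n := hb.ab (n : G) hn r r.2
          rw [e, mul_inv_cancel_right]
        have h4 := Subgroup.card_dvd_of_le h3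
        have h5 : Nat.card ↥(R.subgroupOf (normalizer (R : Set G))) = 13 ^ 3 := by
          rw [← hb.card]
          exact Nat.card_congr (Subgroup.subgroupOfEquivOfLe (le_normalizer)).toEquiv
        rwa [h5] at h4
      have h3 : 13 ^ 4 ∣ Nat.card ↥(normalizer (R : Set G)) := by
        rw [← h1]
        calc 13 ^ 4 = 13 * 13 ^ 3 := by norm_num
          _ ∣ _ := Nat.mul_dvd_mul hd h2
      exact h3.trans (Subgroup.card_subgroup_dvd_card _)
    · rw [← map_mul]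
      have : (⟨z, hzN⟩ * ⟨z, hzN⟩ : ↥(normalizer (R : Set G))) = 1 := Subtype.ext (zz h)
      rw [this, map_one]
    · apply Subtype.ext
      show z * x * z⁻¹ = x
      rw [h.hyp.zx, mul_inv_cancel_right]
    · intro v hv
      have h1 : z * (v : G) * z⁻¹ = v := congrArg Subtype.val hv
      obtain ⟨i, hi⟩ := mem_zpowers_iff.1 (hb.toRW.free h v.2 (mul_inv_eq_iff_eq_mul.1 h1).symm)
      exact mem_zpowers_iff.2 ⟨i, Subtype.ext hi⟩
    · intro u hu huu hu1
      obtain ⟨n, hno, hn, hnz⟩ := hb.lift h hu huu hu1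
      obtain ⟨g, hg1, hg2⟩ := hb.fix h hno hnz
      refine ⟨phi R g, ⟨g, rfl⟩, ?_, ?_⟩
      · apply Subtype.ext
        rw [← hn]
        show (n : G) * ((g : G) * x * (g : G)⁻¹) * (n : G)⁻¹ = (g : G) * x * (g : G)⁻¹
        rw [hg1, mul_inv_cancel_right]
      · intro v hv
        rw [← hn] at hv
        have h1 : (n : G) * v * (n : G)⁻¹ = v := congrArg Subtype.val hv
        obtain ⟨i, hi⟩ := mem_zpowers_iff.1 (hg2 v v.2 (mul_inv_eq_iff_eq_mul.1 h1))
        refine mem_zpowers_iff.2 ⟨i, Subtype.ext ?_⟩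
        rw [SubgroupClass.coe_zpow]
        exact hi
  -- the 2-group
  have hWN : W ≤ normalizer (R : Set G) := fun w hw => mem_normalizer_of (hb.wr w hw)
  have hinj : Function.Injective ((phi R).comp (Subgroup.inclusion hWN)) := by
    rw [injective_iff_map_eq_one]
    intro w hw
    by_contra hw1
    have hw1' : (w : G) ≠ 1 := fun h1 => hw1 (Subtype.ext h1)
    obtain ⟨m, hm⟩ := exists_invol hb.cardW w.2 hw1'
    refine hb.toRW.no_cent h hm ?_
    have h1 : phi R (Subgroup.inclusion hWN (w ^ m)) = 1 := by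
      rw [map_pow, map_pow]
      have : phi R (Subgroup.inclusion hWN w) = 1 := hw
      rw [this, one_pow]
    have h2 := phi_eq_one h1
    intro r hr
    have h3 := h2 r hr
    rw [Subgroup.coe_inclusion] at h3
    exact h3
  have hWc : Nat.card ↥((phi R).comp (Subgroup.inclusion hWN)).range = 32 := by
    rw [← hb.cardW]
    exact (Nat.card_congr (MonoidHom.ofInjective hinj).toEquiv).symm
  refine hC.false_of (W := ((phi R).comp (Subgroup.inclusion hWN)).range) ?_ hWc ?_ ?_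
  · rintro _ ⟨w, rfl⟩
    exact ⟨_, rfl⟩
  · rintro _ ⟨w, rfl⟩
    obtain ⟨i, hi⟩ := mem_zpowers_iff.1 (hb.wx w w.2 x (mem_zpowers x))
    refine mem_zpowers_iff.2 ⟨i, Subtype.ext ?_⟩
    rw [SubgroupClass.coe_zpow]
    exact hi
  · -- a bad element
    obtain ⟨a, hao, -, hbad⟩ := h.exists_bad
    obtain ⟨g, hg⟩ := exists_conj_le hb.card h.hyp.h4 (zp hao)
    have haR := hg a (mem_zpowers a)
    refine ⟨⟨g * a * g⁻¹, haR⟩, ?_, ?_⟩
    · intro h1
      have h2 : g * a * g⁻¹ = 1 := congrArg Subtype.val h1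
      have h3 := orderOf_conj' g a
      rw [h2, orderOf_one, hao] at h3
      omega
    · rintro _ ⟨n, rfl⟩ hmem
      obtain ⟨i, hi⟩ := mem_zpowers_iff.1 hmem
      have h1 : ((n : G) * x * (n : G)⁻¹) ^ i = g * a * g⁻¹ := by
        have := congrArg Subtype.val hi
        rw [SubgroupClass.coe_zpow] at this
        exact this
      apply hbad
      refine h.tb_of_pow (k := i) (isConj_iff.2 ⟨(n : G)⁻¹ * g, ?_⟩)
      calc (n : G)⁻¹ * g * a * ((n : G)⁻¹ * g)⁻¹ = (n : G)⁻¹ * (g * a * g⁻¹) * n := by group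
        _ = (n : G)⁻¹ * ((n : G) * x * (n : G)⁻¹) ^ i * n := by rw [h1]
        _ = x ^ i := by rw [conj_zpow]; group

/-- **All elements of order 13.** -/
theorem ns_of_D (h : D x z t Q) {r : G} (hro : orderOf r = 13) : NS (MulAut.conj r) := by
  obtain ⟨R, W, hr⟩ := exists_RW h
  by_cases hab : ∀ a ∈ R, ∀ b ∈ R, a * b = b * a
  · exact (Ab.false h ⟨hr, hab⟩).elim
  · push Not at hab
    exact case_one h hr ⟨hr.card, h.hyp.hx, hr.mem, hr.cen, hab⟩ hro

open Cfsg.Agent.MonsterX in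
/-- **The row of the Monster, `p = 13`.** -/
theorem irow_m_thirteen {K : Type*} [Group K] [Finite K] [IsSimpleGroup K] (h : Spor.IsoM K) : IRow 13 K := by
  refine irow_of_model_m (by norm_num) (by norm_num) (fun r hr => ?_) h
  have hfin := MFive.Row.finite_model
  obtain ⟨x, z, t, Q, hD⟩ := Cfsg.Agent.H131.T5M13.model_D
  exact ns_of_D hD hr

end Cfsg.Agent.H609.Inv.Thirteen
end

private theorem dce_1c18bef20b3c : _root_.True := by
  try have : _root_.True := by simp only [_root_.Cfsg.Agent.H609.Inv.Thirteen.InvU.congr_simp]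
  exact _root_.True.intro
end

-- part: H609/Inv/MSeven
section
prune_inst 0x30104100742200000000000022001c2292000000004b00012000040004898c4080040e20aa200200900088042034000811000100020000000a000000411c0080000046000200a00880000000a000080c00000000000000000000000000000000000000000
set_option linter.all false
open scoped Cfsg.Agent.FastGrp

/-!
# S3830: the Monster, `p = 7`

Every element `r` of order 7 is a transvection on `⟨w, w₁⟩` up to conjugation (`Seven.Sit.good_all`). The involution `z`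
commutes with `w` and inverts `Q / ⟨w⟩`, so a conjugate of `z` is a reflection on `⟨w, w₁⟩`.
-/

set_option autoImplicit false
set_option maxRecDepth 100000
set_option linter.unusedSectionVars false

namespace Cfsg.Agent.H609.Inv.Seven

open Subgroup Cfsg Cfsg.Spor Cfsg.Agent.H459.Inv
open Cfsg.Agent.MonsterX Cfsg.Agent.MonsterX.InstData
open Cfsg.Agent.LThreeMB (fr XX Zx zD self self_mem_center toXX toCC be be_coe KChart.Cent KChart.pi KChart.chart)
open Cfsg.Agent.H961.SevLift (QQ)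
open Cfsg.Agent.H609.T5.Seven (Sit Good)

section abs

variable {K : Type*} [Group K] [Finite K] {w w1 a s1 z : K} {Q : Subgroup K}

/-- `z` inverts `Q / ⟨w⟩` -/
theorem inverts (hQ : QQ w Q) (hwo : orderOf w = 7) (hz : z * z = 1) (hzw : z * w = w * z)
    (hfree : ∀ q ∈ Q, q * z = z * q → q ∈ zpowers w) {q : K} (hq : q ∈ Q) :
    ∃ j : ℤ, z * q * z⁻¹ = q⁻¹ * w ^ j := by
  have hzi : z⁻¹ = z := inv_eq_of_mul_eq_one_left hz
  have hzq := hQ.norm z hzw q hq
  obtain ⟨q', hq'⟩ : ∃ q', q' = z * q * z⁻¹ := ⟨_, rfl⟩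
  rw [← hq'] at hzq ⊢
  have h1 : z * q' * z⁻¹ = q := by
    rw [hq']
    calc z * (z * q * z⁻¹) * z⁻¹ = (z * z) * q * (z * z)⁻¹ := by group
      _ = q := by rw [hz]; group
  -- `u = q q'`
  obtain ⟨i, hi⟩ := mem_zpowers_iff.1 (hQ.comm q' hzq q hq)
  have hi' : q' * q = w ^ i * (q * q') := by rw [hi]; group
  have h2 : z * (q * q') * z⁻¹ = w ^ i * (q * q') := by
    calc z * (q * q') * z⁻¹ = (z * q * z⁻¹) * (z * q' * z⁻¹) := by group
      _ = q' * q := by rw [h1, hq']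
      _ = _ := hi'
  have hzwi : z * w ^ i * z⁻¹ = w ^ i := by
    rw [((show Commute z w from hzw).zpow_right i).eq, mul_inv_cancel_right]
  have h3 : w ^ (2 * i) = 1 := by
    have h4 : q * q' = w ^ i * (w ^ i * (q * q')) := by
      calc q * q' = (z * z) * (q * q') * (z * z)⁻¹ := by rw [hz]; group
        _ = z * (z * (q * q') * z⁻¹) * z⁻¹ := by group
        _ = z * (w ^ i * (q * q')) * z⁻¹ := by rw [h2]
        _ = (z * w ^ i * z⁻¹) * (z * (q * q') * z⁻¹) := by group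
        _ = w ^ i * (w ^ i * (q * q')) := by rw [hzwi, h2]
    have h5 : (w ^ i * w ^ i) * (q * q') = 1 * (q * q') := by rw [one_mul, mul_assoc, ← h4]
    have h6 := mul_right_cancel h5
    rw [two_mul, zpow_add, h6]
  have h4 : w ^ i = 1 := by
    rw [← orderOf_dvd_iff_zpow_eq_one, hwo] at h3 ⊢
    push_cast at h3 ⊢
    omega
  rw [h4, one_mul] at h2
  have h5 : (q * q') * z = z * (q * q') := (mul_inv_eq_iff_eq_mul.1 h2).symm
  obtain ⟨j, hj⟩ := mem_zpowers_iff.1 (hfree _ (Q.mul_mem hq hzq) h5)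
  exact ⟨j, by rw [hj]; group⟩

/-- **Good elements.** -/
theorem ns_of_good (h : Sit w w1 a s1 Q) (hz2 : orderOf z = 2) (hzw : z * w = w * z)
    (hfree : ∀ q ∈ Q, q * z = z * q → q ∈ zpowers w) {x : K} (hx : Good w w1 x) : NS (MulAut.conj x) := by
  have h7 : Fact (Nat.Prime 7) := ⟨by norm_num⟩
  have hz : z * z = 1 := by rw [← pow_two, ← hz2, pow_orderOf_eq_one]
  obtain ⟨k, m, hm, hX, hX1⟩ := hx
  apply ns_conj (k := k)
  obtain ⟨j, hj⟩ := inverts h.q h.wo hz hzw hfree h.w1Q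
  obtain ⟨m1, hm1, hs1⟩ := h.act_of_ne h.s1Q h.ne
  -- a conjugate of `z`
  have key : ∃ (z' : K) (j' : ℤ), ¬ (7 : ℤ) ∣ j' ∧ orderOf z' = 2 ∧ z' * w = w * z' ∧ z' * w1 * z'⁻¹ = w1⁻¹ * w ^ j' := by
    by_cases hj7 : (7 : ℤ) ∣ j
    · refine ⟨s1 * z * s1⁻¹, j - 2 * m1, ?_, ?_, ?_, ?_⟩
      · intro h1
        omega
      · rw [← MulAut.conj_apply, MulEquiv.orderOf_eq, hz2]
      · have e1 : Commute s1 w := h.comm_w h.s1Q
        exact ((e1.mul_left (show Commute z w from hzw)).mul_left e1.inv_left).eq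
      · have hcw : Commute w w1 := h.ww1
        have e1 : Commute s1 w := h.comm_w h.s1Q
        have e0 : ∀ i : ℤ, s1 * w ^ i * s1⁻¹ = w ^ i := fun i => by
          rw [(e1.zpow_right i).eq, mul_inv_cancel_right]
        have e0' : ∀ i : ℤ, s1⁻¹ * w ^ i * s1 = w ^ i := fun i => by
          rw [((e1.inv_left).zpow_right i).eq, inv_mul_cancel_right]
        have ez : ∀ i : ℤ, z * w ^ i * z⁻¹ = w ^ i := fun i => by
          rw [((show Commute z w from hzw).zpow_right i).eq, mul_inv_cancel_right]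
        have e2 : s1⁻¹ * w1 * s1 = w1 * w ^ (-m1) := by
          calc s1⁻¹ * w1 * s1 = s1⁻¹ * (w1 * w ^ m1) * s1 * (s1⁻¹ * w ^ (-m1) * s1) := by
                rw [zpow_neg]; group
            _ = s1⁻¹ * (s1 * w1 * s1⁻¹) * s1 * (s1⁻¹ * w ^ (-m1) * s1) := by rw [hs1]
            _ = w1 * (s1⁻¹ * w ^ (-m1) * s1) := by group
            _ = w1 * w ^ (-m1) := by rw [e0']
        calc s1 * z * s1⁻¹ * w1 * (s1 * z * s1⁻¹)⁻¹ = s1 * (z * (s1⁻¹ * w1 * s1) * z⁻¹) * s1⁻¹ := by group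
          _ = s1 * ((z * w1 * z⁻¹) * (z * w ^ (-m1) * z⁻¹)) * s1⁻¹ := by rw [e2]; group
          _ = s1 * (w1⁻¹ * w ^ j * w ^ (-m1)) * s1⁻¹ := by rw [hj, ez]
          _ = (s1 * w1 * s1⁻¹)⁻¹ * (s1 * w ^ j * s1⁻¹) * (s1 * w ^ (-m1) * s1⁻¹) := by group
          _ = (w ^ m1)⁻¹ * w1⁻¹ * w ^ j * w ^ (-m1) := by rw [hs1, e0, e0]; group
          _ = w1⁻¹ * ((w ^ m1)⁻¹ * w ^ j * w ^ (-m1)) := by
            rw [(((hcw.zpow_left m1).inv_left).inv_right).eq]; group
          _ = w1⁻¹ * w ^ (j - 2 * m1) := by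
            congr 1
            rw [← zpow_neg, ← zpow_add, ← zpow_add]
            congr 1
            ring
    · exact ⟨z, j, hj7, hz2, hzw, hj⟩
  obtain ⟨z', j', hj', hz2', hzw', hz1'⟩ := key
  refine ns_of_refl (p := 7) (w := w) (w1 := w1) (m := m) (j := -j') (t := a * z' * a⁻¹) (by norm_num) h.wo h.w1o h.ww1
    h.w1n hm (by rwa [dvd_neg]) hX hX1 ?_ ?_
  · rw [← MulAut.conj_apply, MulEquiv.orderOf_eq, hz2']
  · -- `a w⁻¹... `
    have e1 : a⁻¹ * w * a = w1⁻¹ := h.a_inv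
    calc a * z' * a⁻¹ * w * (a * z' * a⁻¹)⁻¹ = a * (z' * (a⁻¹ * w * a) * z'⁻¹) * a⁻¹ := by group
      _ = a * (z' * w1 * z'⁻¹)⁻¹ * a⁻¹ := by rw [e1]; group
      _ = a * (w ^ (-j') * w1) * a⁻¹ := by rw [hz1', zpow_neg]; group
      _ = (a * w * a⁻¹) ^ (-j') * (a * w1 * a⁻¹) := by rw [conj_zpow]; group
      _ = w1 ^ (-j') * w⁻¹ := by rw [h.aw, h.aw1]
      _ = w⁻¹ * w1 ^ (-j') := by
        have : Commute w w1 := h.ww1
        exact ((this.inv_left).zpow_right (-j')).eq.symm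

end abs

section chart

variable {G : Type*} [Group G] [Finite G] {Q₀ : Subgroup G} {z : G} {eta : G → Cfsg.Agent.MonsterU.Lam2.L2}
  {pi : Subgroup.centralizer ({z} : Set G) →* Co1}

theorem even_of {w z : G} (hwo : orderOf w = 7) (hz2 : orderOf z = 2) (hwz : Commute w z) {q : G} {k : ℕ}
    (hk : q ^ 7 ^ k = 1) {i j : ℤ} (hq : q = w ^ i * z ^ j) : q ∈ zpowers w := by
  have hzz : z ^ (2 : ℤ) = 1 := by
    have h7 := pow_orderOf_eq_one z
    rw [hz2] at h7
    exact_mod_cast h7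
  rcases Int.even_or_odd j with ⟨l, hl⟩ | ⟨l, hl⟩
  · rw [hq, hl, ← two_mul, zpow_mul, hzz, one_zpow, mul_one]
    exact zpow_mem_zpowers _ i
  · exfalso
    have h5 : q = w ^ i * z := by
      rw [hq]
      congr 1
      rw [hl, zpow_add, zpow_mul, zpow_one, hzz, one_zpow, one_mul]
    have hwi : Commute (w ^ i) z := hwz.zpow_left i
    rw [h5, hwi.mul_pow] at hk
    have h8 : ((w ^ i) ^ 7 ^ k * z ^ 7 ^ k) ^ 7 = 1 := by
      rw [hk, one_pow]
    rw [((hwi.pow_pow _ _)).mul_pow, ← pow_mul, ← pow_mul] at h8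
    have h9 : (w ^ i) ^ (7 ^ k * 7) = 1 := by
      rw [mul_comm, pow_mul]
      have : (w ^ i) ^ 7 = 1 := by
        rw [← zpow_natCast, ← zpow_mul, mul_comm, zpow_mul, zpow_natCast, ← hwo, pow_orderOf_eq_one, one_zpow]
      rw [this, one_pow]
    rw [h9, one_mul] at h8
    have h10 := orderOf_dvd_of_pow_eq_one h8
    rw [hz2, ← pow_succ] at h10
    have h11 := Nat.prime_two.dvd_of_dvd_pow h10
    norm_num at h11

/-- the centralizer of `z` in `Q` -/
theorem free_chart (h : Cfsg.Agent.MonsterU.Ch.Chart Q₀ z eta pi) {w : centralizer ({z} : Set G)} {Q : Subgroup G}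
    (hQ : QQ (w : G) Q) (hw : orderOf w = 7) (hfr : fr (pi w) = 1) :
    ∀ q ∈ Q, q * z = z * q → q ∈ zpowers (w : G) := by
  have hp7 : Nat.Prime 7 := by norm_num
  have : Fact (Nat.Prime 7) := ⟨hp7⟩
  have hw7 : w ^ 7 = 1 := by rw [← hw, pow_orderOf_eq_one]
  obtain ⟨hAs, hAc, hA⟩ := H961.SevX.xx_facts (MFive.orderOf_pi h hp7 (by decide) hw) hfr
  have hfA : Finite (XX (pi w)) := Nat.finite_of_card_ne_zero (by rw [hA]; norm_num)
  have hsurj : Function.Surjective (toXX pi w) := MFive.toXX_surj h hp7 (by decide) hw7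
  -- the elements of `Q` commuting with `z`
  let B : Subgroup ↥(centralizer ({zD w} : Set ↥(centralizer ({(w : G)} : Set G)))) :=
    (Q.subgroupOf (centralizer ({(w : G)} : Set G))).subgroupOf
      (centralizer ({zD w} : Set ↥(centralizer ({(w : G)} : Set G))))
  have hBn : B.Normal := ⟨by
    intro b hb g
    exact hQ.norm _ (mem_centralizer_singleton_iff.1 (g : ↥(centralizer ({(w : G)} : Set G))).2) _ hb⟩
  have hBp : IsPGroup 7 ↥B :=
    (hQ.pgroup.comap_of_injective _ (subtype_injective _)).comap_of_injective _ (subtype_injective _)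
  have hmap : B.map (toXX pi w) = ⊥ := by
    have hn : (B.map (toXX pi w)).Normal := hBn.map (toXX pi w) hsurj
    rcases hn.eq_bot_or_eq_top with h1 | h1
    · exact h1
    · exfalso
      have h2 : IsPGroup 7 ↥(B.map (toXX pi w)) := hBp.map (toXX pi w)
      rw [h1] at h2
      obtain ⟨n, hn⟩ := IsPGroup.iff_card.1 h2
      rw [Subgroup.card_top, hA] at hn
      have h3 : 2 ∣ 7 ^ n := by rw [← hn]; norm_num
      have h4 := Nat.prime_two.dvd_of_dvd_pow h3
      norm_num at h4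
  intro q hq hqz
  have hqw : q * w = w * q := mem_centralizer_singleton_iff.1 (hQ.le hq)
  obtain ⟨u, hu⟩ : ∃ u : ↥(centralizer ({zD w} : Set ↥(centralizer ({(w : G)} : Set G)))),
      ((u : ↥(centralizer ({(w : G)} : Set G))) : G) = q :=
    ⟨⟨⟨q, mem_centralizer_singleton_iff.2 hqw⟩, mem_centralizer_singleton_iff.2 (Subtype.ext hqz)⟩, rfl⟩
  have h1 : u ∈ B := by
    show ((u : ↥(centralizer ({(w : G)} : Set G))) : G) ∈ Q
    rwa [hu]
  have h2 := mem_map_of_mem (toXX pi w) h1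
  rw [hmap, mem_bot] at h2
  obtain ⟨i, j, hij⟩ := H961.SevM.ker_toXX h hw7 hfr u h2
  have h3 : q = (w : G) ^ i * z ^ j := by
    rw [← hu, hij]
    rfl
  -- the order of `q` is odd
  obtain ⟨k, hk⟩ := hQ.pgroup ⟨q, hq⟩
  have hk' : q ^ 7 ^ k = 1 := congrArg Subtype.val hk
  exact even_of (by rw [Subgroup.orderOf_coe, hw]) (LargeExtra.Base.orderOf_z h.large)
    (mem_centralizer_singleton_iff.1 w.2) hk' h3

end chart

/-- the elements of order 7 of the model -/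
theorem ns_model {r : ↥InstData.M.G} (hr : orderOf r = 7) : NS (MulAut.conj r) := by
  have hfin := MFive.Row.finite_model
  have h := KChart.chart KDone.lft MFive.Row.hc
  have h7 : ¬ 7 ^ 7 ∣ Nat.card ↥InstData.M.G := by
    rw [H961.SevM.card_model]
    norm_num
  obtain ⟨y, v, s', a, c, w, hL, h5⟩ := H961.SevM.exists_data'
  obtain ⟨Q, hQ, -⟩ := H961.SevM.exists_qq hL h5
  have h7' : Fact (Nat.Prime 7) := ⟨by norm_num⟩
  have hwo' : orderOf (w : ↥InstData.M.G) = 7 := orderOf_eq_prime hL.w7 hL.w1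
  have hwo : orderOf w = 7 := by rw [← Subgroup.orderOf_coe, hwo']
  have hfr := H961.SevM.fr_eq_one hL h5 hwo
  obtain ⟨s1, hS⟩ := T5.Seven.exists_sit hL hQ h5 h7
  exact ns_of_good hS (LargeExtra.Base.orderOf_z h.large) (mem_centralizer_singleton_iff.1 w.2).symm
    (free_chart h hQ hwo hfr) (hS.good_all h7 hr)

/-- **The row of the Monster, `p = 7`.** -/
theorem irow_m_seven {K : Type*} [Group K] [Finite K] [IsSimpleGroup K] (h : Spor.IsoM K) : IRow 7 K :=
  irow_of_model_m (by norm_num) (by norm_num) (fun _ hr => ns_model hr) h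

end Cfsg.Agent.H609.Inv.Seven
end
end
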